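import Mathlib
import Cfsg.Agent.Lib.GLChar.JT
import Cfsg.Agent.Lib.GLChar.Cosets

/-!
The characters of the symmetric groups by the formula of Frobenius, indexed by bead positions.
-/

set_option autoImplicit false
set_option linter.unusedSectionVars false

namespace H33.Sn

open Finset Equiv Cfsg H64.GC ComplexConjugate

variable {N : ℕ} {Ω Ω' : Type*} [Fintype Ω] [DecidableEq Ω] [Fintype Ω'] [DecidableEq Ω']

/-- The type of a labelling. -/
def ty (f : Ω → Fin N) (a : Fin N) : ℕ := #{x | f x = a}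

/-- The invariant labellings. -/
def iv (N : ℕ) (g : Perm Ω) : Finset (Ω → Fin N) := {f | ∀ x, f (g x) = f x}

/-- The sign as a complex number. -/
abbrev sg {ι : Type*} [Fintype ι] [DecidableEq ι] (κ : Perm ι) : ℂ := ((Perm.sign κ : ℤ) : ℂ)

/-- The class function with Fourier coefficients `φ`. -/
noncomputable def cf (φ : (Fin N → ℕ) → ℂ) (g : Perm Ω) : ℂ :=
  ∑ κ : Perm (Fin N), ∑ f ∈ iv N g, sg κ * φ (fun i => κ i + ty f i)

/-- The character (up to sign) with bead positions `β`. -/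
noncomputable def ch (β : Fin N → ℕ) : Perm Ω → ℂ := cf fun γ => if γ = β then 1 else 0

/-- The sum of the bead positions. -/
def dg (N n : ℕ) : ℕ := n + ∑ i : Fin N, (i : ℕ)

lemma mem_iv {g : Perm Ω} {f : Ω → Fin N} : f ∈ iv N g ↔ ∀ x, f (g x) = f x := by simp [iv]

lemma sg_mul {ι : Type*} [Fintype ι] [DecidableEq ι] (a b : Perm ι) : sg (a * b) = sg a * sg b := by
  simp [sg]

lemma sg_mul_self {ι : Type*} [Fintype ι] [DecidableEq ι] (a : Perm ι) : sg a * sg a = 1 := by
  rcases Int.units_eq_one_or (Perm.sign a) with h | h <;> simp [sg, h]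

lemma sg_inv {ι : Type*} [Fintype ι] [DecidableEq ι] (a : Perm ι) : sg a⁻¹ = sg a := by
  simp [sg]

lemma sg_ne_zero {ι : Type*} [Fintype ι] [DecidableEq ι] (a : Perm ι) : sg a ≠ 0 :=
  left_ne_zero_of_mul_eq_one (sg_mul_self a)

lemma sg_cases {ι : Type*} [Fintype ι] [DecidableEq ι] (a : Perm ι) : sg a = 1 ∨ sg a = -1 := by
  rcases Int.units_eq_one_or (Perm.sign a) with h | h <;> simp [sg, h]

lemma sum_ty (f : Ω → Fin N) : ∑ a, ty f a = Fintype.card Ω :=
  (card_eq_sum_card_fiberwise (f := f) (s := univ) (t := univ) (by simp)).symm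

lemma sum_add_ty (κ : Perm (Fin N)) (f : Ω → Fin N) :
    ∑ i, ((κ i : ℕ) + ty f i) = dg N (Fintype.card Ω) := by
  rw [sum_add_distrib, sum_ty, Equiv.sum_comp κ fun i => (i : ℕ), dg, add_comm]

lemma cf_congr {φ ψ : (Fin N → ℕ) → ℂ}
    (h : ∀ β, ∑ i, β i = dg N (Fintype.card Ω) → φ β = ψ β) (g : Perm Ω) : cf φ g = cf ψ g :=
  sum_congr rfl fun κ _ => sum_congr rfl fun f _ => by rw [h _ (sum_add_ty κ f)]

lemma cf_eq_zero {φ : (Fin N → ℕ) → ℂ}
    (h : ∀ β, ∑ i, β i = dg N (Fintype.card Ω) → φ β = 0) (g : Perm Ω) : cf φ g = 0 :=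
  sum_eq_zero fun κ _ => sum_eq_zero fun f _ => by rw [h _ (sum_add_ty κ f), mul_zero]

lemma cf_sum {ι : Type*} (s : Finset ι) (φ : ι → (Fin N → ℕ) → ℂ) (g : Perm Ω) :
    cf (fun β => ∑ a ∈ s, φ a β) g = ∑ a ∈ s, cf (φ a) g := by
  simp only [cf, mul_sum]
  rw [sum_comm (s := s)]
  exact sum_congr rfl fun κ _ => sum_comm

lemma cf_mul (c : ℂ) (φ : (Fin N → ℕ) → ℂ) (g : Perm Ω) :
    cf (fun β => c * φ β) g = c * cf φ g := by
  simp only [cf, mul_sum]
  exact sum_congr rfl fun κ _ => sum_congr rfl fun f _ => by ring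

lemma cf_eq_sum (φ : (Fin N → ℕ) → ℂ) : (cf φ : Perm Ω → ℂ) =
    ∑ β ∈ piAntidiag univ (dg N (Fintype.card Ω)), φ β • ch β := by
  funext g
  simp only [Finset.sum_apply, Pi.smul_apply, smul_eq_mul, ch, ← cf_mul, ← cf_sum]
  refine cf_congr (fun β hβ => ?_) g
  simp [hβ]

lemma ch_eq_zero_of_dg {β : Fin N → ℕ} (h : ∑ i, β i ≠ dg N (Fintype.card Ω)) :
    (ch β : Perm Ω → ℂ) = 0 :=
  funext fun g => cf_eq_zero (fun γ hγ => if_neg fun (e : γ = β) => h (e ▸ hγ)) g

lemma cf_permCongr (φ : (Fin N → ℕ) → ℂ) (e : Ω ≃ Ω') (g : Perm Ω) :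
    cf φ (e.permCongr g) = cf φ g := by
  refine sum_congr rfl fun κ _ => ?_
  refine sum_bij' (fun f _ => f ∘ e) (fun f _ => f ∘ e.symm) (fun f hf => ?_) (fun f hf => ?_)
    (fun f _ => by ext; simp) (fun f _ => by ext; simp) fun f _ => ?_
  · rw [mem_iv] at hf ⊢
    intro x
    simpa using hf (e x)
  · rw [mem_iv] at hf ⊢
    intro x
    simpa using hf (e.symm x)
  · congr 2
    funext i
    congr 1
    exact (card_bij (fun x _ => e x) (by simp) (by simp) fun y hy => ⟨e.symm y, by simpa using hy, by simp⟩).symm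

lemma isClassFunction_cf (φ : (Fin N → ℕ) → ℂ) : IsClassFunction (Perm Ω) (cf φ) :=
  fun g h => cf_permCongr φ h g

lemma ty_sum (f : Ω → Fin N) (f' : Ω' → Fin N) (a : Fin N) :
    ty (Sum.elim f f') a = ty f a + ty f' a := by
  simp only [ty, card_filter, Fintype.sum_sum_type, Sum.elim_inl, Sum.elim_inr]
  congr

/-- Product formula. -/
lemma cf_sumCongr (φ : (Fin N → ℕ) → ℂ) (y : Perm Ω) (h : Perm Ω') :
    cf φ (Perm.sumCongr y h) = cf (fun β => ∑ f ∈ iv N y, φ (β + ty f)) h := by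
  refine sum_congr rfl fun κ _ => ?_
  simp only [mul_sum]
  rw [sum_comm, ← sum_product']
  symm
  refine sum_bij' (fun q _ => Sum.elim q.1 q.2) (fun f _ => (f ∘ Sum.inl, f ∘ Sum.inr))
    (fun q hq => ?_) (fun f hf => ?_) (fun q _ => by ext <;> simp)
    (fun f _ => by ext x; cases x <;> simp) fun q _ => ?_
  · simp only [mem_product, mem_iv] at hq ⊢
    rintro (x | x)
    · simpa using hq.1 x
    · simpa using hq.2 x
  · simp only [mem_product, mem_iv] at hf ⊢
    exact ⟨fun x => by simpa using hf (.inl x), fun x => by simpa using hf (.inr x)⟩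
  · congr 2
    funext i
    simp only [ty_sum, Pi.add_apply]
    ring

lemma cf_comp (φ : (Fin N → ℕ) → ℂ) (σ : Perm (Fin N)) (g : Perm Ω) :
    cf (fun β => φ (β ∘ σ)) g = sg σ * cf φ g := by
  simp only [cf, mul_sum]
  refine Fintype.sum_equiv (Equiv.mulRight σ) _ _ fun κ => ?_
  refine sum_bij' (fun f _ => σ.symm ∘ f) (fun f _ => σ ∘ f) (fun f hf => ?_) (fun f hf => ?_)
    (fun f _ => by ext; simp) (fun f _ => by ext; simp) fun f _ => ?_
  · rw [mem_iv] at hf ⊢
    intro x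
    simp [hf x]
  · rw [mem_iv] at hf ⊢
    intro x
    simp [hf x]
  · rw [coe_mulRight, sg_mul, ← mul_assoc, mul_comm (sg σ), mul_assoc (sg κ), sg_mul_self, mul_one]
    congr 2
    funext i
    simp only [Function.comp_apply, Perm.mul_apply, ty, symm_apply_eq]

lemma ch_comp (β : Fin N → ℕ) (σ : Perm (Fin N)) : (ch (β ∘ σ) : Perm Ω → ℂ) = sg σ • ch β := by
  funext g
  have := cf_comp (fun γ => if γ = β then (1 : ℂ) else 0) σ⁻¹ g
  rw [sg_inv] at this
  rw [Pi.smul_apply, smul_eq_mul, ch, ch, ← this]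
  congr 1
  funext γ
  congr 1
  apply propext
  constructor
  · rintro rfl; ext; simp
  · rintro rfl; ext; simp

lemma ch_eq_zero {β : Fin N → ℕ} (h : ¬ Function.Injective β) : (ch β : Perm Ω → ℂ) = 0 := by
  simp only [Function.Injective, not_forall] at h
  obtain ⟨i, j, h, hij⟩ := h
  have h1 := ch_comp (Ω := Ω) β (swap i j)
  have h2 : β ∘ swap i j = β := by
    funext k
    simp only [Function.comp_apply, swap_apply_def]
    split_ifs with h1 h2 <;> simp [*]
  rw [h2, sg, Perm.sign_swap hij] at h1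
  funext g
  have := congrFun h1 g
  simp only [Units.val_neg, Units.val_one, Int.reduceNeg, Int.cast_neg, Int.cast_one, neg_smul,
    one_smul, Pi.neg_apply] at this
  exact CharZero.eq_neg_self_iff.mp this

/-- The permutation character on the labellings of type `α`. -/
noncomputable def pc (α : Fin N → ℕ) (g : Perm Ω) : ℂ := (#{f ∈ iv N g | ty f = α} : ℕ)

lemma ty_comp (b : Ω → Fin N) (σ : Perm Ω) : ty (b ∘ σ) = ty b := by
  funext a
  exact card_bij (fun x _ => σ x) (by simp) (by simp) fun y hy => ⟨σ.symm y, by simpa using hy, by simp⟩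

lemma pc_eq (b : Ω → Fin N) : pc (ty b) = fixedPointCharacter (Yg b) := by
  funext g
  rw [pc, fixedPointCharacter, ← Nat.card_eq_finsetCard]
  congr 1
  symm
  let F : Perm Ω ⧸ Yg b → Ω → Fin N := Quotient.lift (fun x : Perm Ω => b ∘ ⇑(x⁻¹)) fun x y hxy => by
    have h := QuotientGroup.leftRel_apply.mp hxy
    funext z
    simpa using h (y⁻¹ z)
  have hF : ∀ x : Perm Ω, F x = b ∘ ⇑(x⁻¹) := fun _ => rfl
  have inj : Function.Injective F := by
    intro x y
    induction x using QuotientGroup.induction_on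
    induction y using QuotientGroup.induction_on
    rename_i x y
    intro h
    rw [hF, hF] at h
    refine QuotientGroup.eq.mpr fun z => ?_
    simpa using congrFun h (y z)
  have key : ∀ x : Perm Ω, g • (x : Perm Ω ⧸ Yg b) = x ↔ F x ∈ iv N g := by
    intro x
    rw [← inj.eq_iff, MulAction.Quotient.smul_coe, hF, hF, mem_iv, funext_iff]
    constructor
    · intro h z
      simpa using (h (g z)).symm
    · intro h z
      simpa using (h (g⁻¹ z)).symm
  refine Nat.card_congr (Equiv.ofBijective (fun x => ⟨F x.1, ?_⟩) ⟨fun x y h => ?_, fun f => ?_⟩)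
  · obtain ⟨x, hx⟩ := x
    induction x using QuotientGroup.induction_on
    exact mem_filter.mpr ⟨(key _).mp hx, ty_comp _ _⟩
  · exact Subtype.ext (inj (congrArg Subtype.val h))
  · obtain ⟨f, hf⟩ := f
    obtain ⟨h1, h2⟩ := mem_filter.mp hf
    obtain ⟨e, he⟩ := exists_equiv f b fun y => congrFun h2 y
    have : F (e⁻¹ : Perm Ω) = f := funext he
    exact ⟨⟨(e⁻¹ : Perm Ω), (key _).mpr (this ▸ h1)⟩, Subtype.ext this⟩

lemma exists_ty {α : Fin N → ℕ} (h : ∑ i, α i = Fintype.card Ω) : ∃ b : Ω → Fin N, ty b = α := by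
  obtain ⟨e⟩ : Nonempty (Ω ≃ Σ a, Fin (α a)) := Fintype.card_eq.mp (by simp [h])
  refine ⟨fun x => (e x).1, funext fun a => ?_⟩
  have : #{x : Σ a, Fin (α a) | x.1 = a} = α a := by
    rw [card_filter, Fintype.sum_sigma]
    simp [apply_ite card]
  rw [← this]
  exact card_bij (fun x _ => e x) (by simp) (by simp) fun y hy => ⟨e.symm y, by simpa using hy, by simp⟩

lemma ch_eq (β : Fin N → ℕ) : (ch β : Perm Ω → ℂ) = ∑ κ : Perm (Fin N),
    if ∀ i, (κ i : ℕ) ≤ β i then sg κ • pc fun i => β i - κ i else 0 := by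
  funext g
  rw [ch, cf, Finset.sum_apply]
  refine sum_congr rfl fun κ _ => ?_
  rw [← mul_sum]
  split_ifs with h
  · rw [Pi.smul_apply, smul_eq_mul, pc, card_filter]
    push_cast
    congr 1
    refine sum_congr rfl fun f _ => if_congr ?_ rfl rfl
    simp only [funext_iff]
    exact forall_congr' fun i => by have := h i; omega
  · rw [sum_eq_zero, mul_zero, Pi.zero_apply]
    intro f _
    refine if_neg fun e => h fun i => ?_
    have := congrFun e i
    omega

lemma sum_sub_dg {β : Fin N → ℕ} {n : ℕ} (hβ : ∑ i, β i = dg N n) {κ : Perm (Fin N)}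
    (h : ∀ i, (κ i : ℕ) ≤ β i) : ∑ i, (β i - κ i) = n := by
  have h1 : ∑ i, (β i - κ i) + ∑ i, (κ i : ℕ) = ∑ i, β i := by
    rw [← sum_add_distrib]
    exact sum_congr rfl fun i _ => Nat.sub_add_cancel (h i)
  rw [Equiv.sum_comp κ fun i => (i : ℕ), hβ, dg] at h1
  omega

theorem isGen_ch (β : Fin N → ℕ) : IsGeneralizedCharacter (Perm Ω) (ch β) := by
  by_cases hβ : ∑ i, β i = dg N (Fintype.card Ω)
  swap
  · rw [ch_eq_zero_of_dg hβ]; exact H6.isGen_zero
  rw [ch_eq]
  refine H6.isGen_sum _ fun κ _ => ?_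
  split_ifs with h
  · obtain ⟨b, hb⟩ := exists_ty (sum_sub_dg hβ h)
    rw [← hb, pc_eq]
    exact H6.isGen_intCast_smul _ (H6.char_isGen (H6.isCharacter_fixedBy _))
  · exact H6.isGen_zero

open MvPolynomial Matrix in
theorem alt_sum' (l l' : Fin N → ℕ) :
    ∑ κ : Perm (Fin N), ∑ κ' : Perm (Fin N),
      (if ∀ i, (κ i : ℕ) ≤ l i then if ∀ i, (κ' i : ℕ) ≤ l' i then
        (Perm.sign κ : ℤ) * (Perm.sign κ' : ℤ) *
          (Nat.card (NM (fun i => l i - κ i) fun i => l' i - κ' i) : ℤ) else 0 else 0) =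
      ∑ σ : Perm (Fin N), if l' ∘ σ = l then (Perm.sign σ : ℤ) else 0 := by
  have h1 := congrArg (coeff (fs l)) (jacobi_trudi (X : Fin N → MvPolynomial (Fin N) ℤ) l')
  rw [det_Am, det_Am, sum_mul, coeff_sum, coeff_sum] at h1
  simp only [coeff_monomial, EmbeddingLike.apply_eq_iff_eq] at h1
  refine Eq.trans ?_ h1.symm
  refine sum_congr rfl fun κ _ => ?_
  rw [coeff_monomial_mul', det_apply', coeff_sum]
  have e : (fs fun k => (κ k : ℕ)) ≤ fs l ↔ ∀ i, (κ i : ℕ) ≤ l i := Iff.rfl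
  rw [if_congr e rfl rfl]
  split_ifs with hκ
  · rw [mul_sum]
    refine sum_congr rfl fun κ' _ => ?_
    rw [← eq_intCast (C : ℤ →+* MvPolynomial (Fin N) ℤ), coeff_C_mul]
    simp only [Hm, of_apply, prod_ite_zero, mem_univ, forall_const]
    split_ifs
    · rw [← coeff_prod_hh, mul_assoc]
      congr 3
      ext; simp
    · simp
  · simp

theorem inner_ch {β γ : Fin N → ℕ} (hβ : ∑ i, β i = dg N (Fintype.card Ω))
    (hγ : ∑ i, γ i = dg N (Fintype.card Ω)) : classInner (ch β : Perm Ω → ℂ) (ch γ) =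
      ∑ σ : Perm (Fin N), if γ ∘ σ = β then sg σ else 0 := by
  have := congrArg (Int.cast : ℤ → ℂ) (alt_sum' β γ)
  push_cast at this
  rw [← this, ch_eq, ch_eq, H6.classInner_sum_left]
  refine sum_congr rfl fun κ _ => ?_
  rw [H6.classInner_sum_right]
  refine sum_congr rfl fun κ' _ => ?_
  split_ifs with h1 h2
  · obtain ⟨b, hb⟩ := exists_ty (sum_sub_dg hβ h1)
    obtain ⟨c, hc⟩ := exists_ty (sum_sub_dg hγ h2)
    rw [H6.classInner_smul_left, H6.classInner_smul_right, ← hb, ← hc, pc_eq, pc_eq,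
      inner_Yg (α := ty b) (β := ty c) (fun _ => rfl) (fun _ => rfl), map_intCast, mul_assoc]
  · exact H6.classInner_zero_right _
  · exact H6.classInner_zero_left _
  · exact H6.classInner_zero_left _

/-- Fourier coefficients. -/
theorem inner_cf (φ : (Fin N → ℕ) → ℂ) {γ : Fin N → ℕ} (hγ : ∑ i, γ i = dg N (Fintype.card Ω)) :
    classInner (cf φ : Perm Ω → ℂ) (ch γ) = ∑ σ : Perm (Fin N), sg σ * φ (γ ∘ σ) := by
  rw [cf_eq_sum, H6.classInner_sum_left]
  have : ∀ β ∈ piAntidiag univ (dg N (Fintype.card Ω)),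
      classInner (φ β • ch β : Perm Ω → ℂ) (ch γ) =
        ∑ σ : Perm (Fin N), if γ ∘ σ = β then sg σ * φ (γ ∘ σ) else 0 := by
    intro β hβ
    rw [H6.classInner_smul_left, inner_ch (by simpa using hβ) hγ, mul_sum]
    refine sum_congr rfl fun σ _ => ?_
    split_ifs with h
    · rw [h, mul_comm]
    · simp
  rw [sum_congr rfl this, sum_comm]
  refine sum_congr rfl fun σ _ => ?_
  rw [sum_ite_eq, if_pos]
  simpa [Equiv.sum_comp σ γ] using hγ

/-- Antisymmetric functions. -/
def Anti (φ : (Fin N → ℕ) → ℂ) : Prop := ∀ β (σ : Perm (Fin N)), φ (β ∘ σ) = sg σ * φ β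

theorem Anti.inner_cf {φ : (Fin N → ℕ) → ℂ} (h : Anti φ) {γ : Fin N → ℕ}
    (hγ : ∑ i, γ i = dg N (Fintype.card Ω)) :
    classInner (cf φ : Perm Ω → ℂ) (ch γ) = N.factorial * φ γ := by
  rw [H33.Sn.inner_cf φ hγ]
  simp only [h γ, ← mul_assoc, sg_mul_self, one_mul, sum_const, card_univ, Fintype.card_perm,
    Fintype.card_fin, nsmul_eq_mul]

theorem Anti.eq_zero {φ : (Fin N → ℕ) → ℂ} (h : Anti φ) (h0 : ∀ g : Perm Ω, cf φ g = 0)
    {γ : Fin N → ℕ} (hγ : ∑ i, γ i = dg N (Fintype.card Ω)) : φ γ = 0 := by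
  have := h.inner_cf hγ
  rw [show (cf φ : Perm Ω → ℂ) = 0 from funext h0, H6.classInner_zero_left] at this
  exact (mul_eq_zero.mp this.symm).resolve_left (by exact_mod_cast N.factorial_ne_zero)

theorem anti_inner (θ : Perm Ω → ℂ) : Anti fun β : Fin N → ℕ => classInner θ (ch β) := by
  intro β σ
  simp only [ch_comp, H6.classInner_smul_right, map_intCast]

theorem inner_ch_self {β : Fin N → ℕ} (hβ : ∑ i, β i = dg N (Fintype.card Ω))
    (h : Function.Injective β) : classInner (ch β : Perm Ω → ℂ) (ch β) = 1 := by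
  rw [inner_ch hβ hβ, sum_eq_single 1]
  · simp
  · intro σ _ hσ
    exact if_neg fun e => hσ (Equiv.ext fun i => h (congrFun e i))
  · simp

theorem irr_or_neg {β : Fin N → ℕ} (hβ : ∑ i, β i = dg N (Fintype.card Ω))
    (h : Function.Injective β) :
    IsIrrCharacter (Perm Ω) (ch β) ∨ IsIrrCharacter (Perm Ω) (-ch β) :=
  H6.irr_or_neg_irr_of_inner_self (isGen_ch β) (inner_ch_self hβ h)

open Matrix in
/-- The degree formula. -/
theorem degree_ch {β : Fin N → ℕ} (hβ : ∑ i, β i = dg N (Fintype.card Ω)) :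
    ch β (1 : Perm Ω) * ∏ i, ((β i).factorial : ℂ) =
      (Fintype.card Ω).factorial * ∏ i : Fin N, ∏ j ∈ Ioi i, ((β j : ℂ) - β i) := by
  rw [← det_vandermonde, det_eval_matrixOfPolynomials_eq_det_vandermonde _
    (fun j => descPochhammer ℂ j) (fun j => descPochhammer_natDegree ℂ j)
    (fun j => monic_descPochhammer ℂ j), ← det_transpose, det_apply', ch_eq, Finset.sum_apply,
    sum_mul, mul_sum]
  refine sum_congr rfl fun κ _ => ?_
  simp only [transpose_apply, of_apply, descPochhammer_eval_eq_descFactorial]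
  split_ifs with h
  · obtain ⟨b, hb⟩ := exists_ty (sum_sub_dg hβ h)
    have h1 : Nat.card (Yg b) = ∏ i, (β i - κ i).factorial := by
      have := DomMulAct.stabilizer_card b
      rw [← Nat.card_eq_fintype_card] at this
      refine Eq.trans (Nat.card_congr (Equiv.subtypeEquivRight fun g => ?_)) (this.trans ?_)
      · exact funext_iff.symm
      · refine prod_congr rfl fun i _ => ?_
        rw [Fintype.card_subtype, ← congrFun hb i]; rfl
    have h2 := Subgroup.card_eq_card_quotient_mul_card_subgroup (Yg b)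
    rw [h1, Nat.card_eq_fintype_card, Fintype.card_perm] at h2
    rw [Pi.smul_apply, ← hb, pc_eq, fixedPointCharacter, MulAction.fixedBy_one_eq_univ,
      Nat.card_univ, h2, smul_eq_mul]
    have h3 : ∏ i, ((β i).factorial : ℂ) =
        (∏ i, ((β i - κ i).factorial : ℂ)) * ∏ i, ((β i).descFactorial (κ i) : ℂ) := by
      rw [← prod_mul_distrib]
      refine prod_congr rfl fun i _ => ?_
      rw [← Nat.factorial_mul_descFactorial (h i)]
      push_cast; rfl
    rw [h3]
    push_cast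
    ring
  · obtain ⟨i, hi⟩ := not_forall.mp h
    rw [prod_eq_zero (f := fun i => (((β i).descFactorial (κ i) : ℕ) : ℂ)) (mem_univ i)
      (by simp [Nat.descFactorial_eq_zero_iff_lt.mpr (not_le.mp hi)])]
    simp

end H33.Sn
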