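import Mathlib
import Cfsg.Prelude.Def_BlockRank
import Cfsg.Agent.Lib.SnRep.Char

/-!
Murnaghan–Nakayama rule, completeness, and orthogonality on the `p`-regular elements.
-/

set_option autoImplicit false
set_option linter.unusedSectionVars false
set_option linter.style.haveILetI false

namespace H33.Sn

open Finset Equiv Cfsg H64.GC ComplexConjugate

universe u

variable {N : ℕ} {Ω Ω' : Type*} [Fintype Ω] [DecidableEq Ω] [Fintype Ω'] [DecidableEq Ω']

/-- Moving one bead by `r`. -/
noncomputable def Dr (r : ℕ) (φ : (Fin N → ℕ) → ℂ) (β : Fin N → ℕ) : ℂ :=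
  ∑ i, φ (β + Pi.single i r)

lemma Anti.Dr {φ : (Fin N → ℕ) → ℂ} (h : Anti φ) (r : ℕ) : Anti (Dr r φ) := by
  intro β σ
  simp only [H33.Sn.Dr, mul_sum, ← h _ σ]
  refine Fintype.sum_equiv σ _ _ fun i => ?_
  congr 1
  funext j
  simp [Pi.single_apply]

lemma Anti.eq_zero_of_not_inj {φ : (Fin N → ℕ) → ℂ} (h : Anti φ) {β : Fin N → ℕ}
    (hβ : ¬ Function.Injective β) : φ β = 0 := by
  simp only [Function.Injective, not_forall] at hβ
  obtain ⟨i, j, e, hij⟩ := hβ
  have h1 := h β (swap i j)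
  have h2 : β ∘ swap i j = β := by
    funext k
    simp only [Function.comp_apply, swap_apply_def]
    split_ifs with h1 h2 <;> simp [*]
  rw [h2, sg, Perm.sign_swap hij] at h1
  simp only [Units.val_neg, Units.val_one, Int.reduceNeg, Int.cast_neg, Int.cast_one, neg_mul,
    one_mul] at h1
  exact CharZero.eq_neg_self_iff.mp h1

lemma anti_of_swap {φ : (Fin N → ℕ) → ℂ} (h : ∀ β i j, i ≠ j → φ (β ∘ swap i j) = -φ β) :
    Anti φ := by
  intro β σ
  induction σ using Perm.swap_induction_on' with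
  | one => simp [sg]
  | mul_swap σ i j hij ih =>
    rw [Perm.coe_mul, ← Function.comp_assoc, h _ i j hij, ih, sg_mul, sg, sg, Perm.sign_swap hij]
    simp

lemma sum_le_of_inj {δ : Fin N → ℕ} (hi : Function.Injective δ) :
    ∑ i : Fin N, (i : ℕ) ≤ ∑ i, δ i := by
  rw [← Equiv.sum_comp (Tuple.sort δ) δ]
  have hs := (Tuple.monotone_sort δ).strictMono_of_injective (hi.comp (Equiv.injective _))
  refine sum_le_sum fun j _ => ?_
  obtain ⟨j, hj⟩ := j
  induction j with
  | zero => exact Nat.zero_le _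
  | succ j ih => exact Nat.succ_le_of_lt ((ih (by omega) (mem_univ _)).trans_lt (hs (by simp)))

/-- The Murnaghan–Nakayama rule. -/
theorem cf_cycle [Nonempty Ω] (φ : (Fin N → ℕ) → ℂ) {y : Perm Ω} (hy : ∀ a b, y.SameCycle a b)
    (h : Perm Ω') : cf φ (Perm.sumCongr y h) = cf (Dr (Fintype.card Ω) φ) h := by
  rw [cf_sumCongr]
  congr 1
  funext β
  symm
  refine sum_bij (fun i _ _ => i) (by simp [mem_iv])
    (fun i _ j _ e => congrFun e (Classical.arbitrary Ω)) (fun f hf => ?_) fun i _ => ?_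
  · refine ⟨f (Classical.arbitrary Ω), mem_univ _, funext fun x => ?_⟩
    obtain ⟨k, rfl⟩ := (hy (Classical.arbitrary Ω) x).exists_nat_pow_eq
    induction k with
    | zero => rfl
    | succ k ih => rw [pow_succ', Perm.mul_apply, mem_iv.mp hf]; exact ih
  · congr 2
    funext a
    by_cases ha : i = a <;> simp [ty, ha, eq_comm]

lemma cf_subtypeCongr (φ : (Fin N → ℕ) → ℂ) {P : Ω → Prop} [DecidablePred P]
    (y : Perm {x // P x}) (h : Perm {x // ¬ P x}) :
    cf φ (y.subtypeCongr h) = cf φ (Perm.sumCongr y h) := cf_permCongr φ _ _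

lemma subtypeCongr_subtypePerm {P : Ω → Prop} [DecidablePred P] (g : Perm Ω)
    (h : ∀ x, P (g x) ↔ P x) :
    (g.subtypePerm h).subtypeCongr (g.subtypePerm fun x => not_congr (h x)) = g := by
  ext x
  by_cases hx : P x <;> simp [hx]

theorem Anti.eq_zero_of_Dr {φ : (Fin N → ℕ) → ℂ} (h : Anti φ) {m : ℕ} (hm : 0 < m)
    (hD : ∀ k, 0 < k → ∀ δ : Fin N → ℕ, ∑ i, δ i + k = dg N m → H33.Sn.Dr k φ δ = 0)
    {γ : Fin N → ℕ} (hγ : ∑ i, γ i = dg N m) : φ γ = 0 := by
  refine h.eq_zero (Ω := Fin m) (fun g => ?_) (by simpa using hγ)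
  let x₀ : Fin m := ⟨0, hm⟩
  have hP : ∀ x, g.SameCycle x₀ (g x) ↔ g.SameCycle x₀ x := fun x => Perm.sameCycle_apply_right
  haveI : Nonempty {x // g.SameCycle x₀ x} := ⟨⟨x₀, Perm.SameCycle.refl _ _⟩⟩
  rw [← subtypeCongr_subtypePerm g hP, cf_subtypeCongr, cf_cycle]
  · refine cf_eq_zero (fun δ hδ => hD _ Fintype.card_pos δ ?_) _
    have := Fintype.card_subtype_compl (g.SameCycle x₀)
    have h2 := Fintype.card_subtype_le (g.SameCycle x₀)
    rw [Fintype.card_fin] at this h2
    rw [hδ, dg, dg, this]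
    omega
  · intro a b
    exact Perm.sameCycle_subtypePerm.mpr (a.2.symm.trans b.2)

theorem isIrr_ch {β : Fin N → ℕ} (hβ : ∑ i, β i = dg N (Fintype.card Ω)) (h : StrictMono β) :
    IsIrrCharacter (Perm Ω) (ch β) := by
  refine H6.isIrr_of_gen_of_inner_self (isGen_ch β) (inner_ch_self hβ h.injective) ?_
  have h1 := degree_ch hβ
  have h2 : ch β (1 : Perm Ω) = (((Fintype.card Ω).factorial *
      (∏ i : Fin N, ∏ j ∈ Ioi i, ((β j : ℝ) - β i)) / ∏ i, ((β i).factorial : ℝ) : ℝ) : ℂ) := by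
    push_cast
    rw [← h1, mul_div_cancel_right₀]
    exact prod_ne_zero_iff.mpr fun i _ => by exact_mod_cast (β i).factorial_ne_zero
  rw [h2, Complex.ofReal_re]
  refine div_nonneg (mul_nonneg (by positivity) (prod_nonneg fun i _ => prod_nonneg fun j hj => ?_))
    (by positivity)
  rw [sub_nonneg, Nat.cast_le]
  exact (h (mem_Ioi.mp hj)).le

theorem exists_monotone {n : ℕ} (hN : n ≤ N) (μ : n.Partition) : ∃ ν : Fin N → ℕ, Monotone ν ∧
    (univ.val.map ν).filter (· ≠ 0) = μ.parts := by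
  have hc : Multiset.card μ.parts ≤ N := by
    have := Multiset.card_nsmul_le_sum (s := μ.parts) (a := 1) fun x hx => μ.parts_pos hx
    rw [μ.parts_sum] at this
    simp only [smul_eq_mul, mul_one] at this
    omega
  obtain ⟨l, hl⟩ : ∃ l : List ℕ, (l : Multiset ℕ) =
      μ.parts + Multiset.replicate (N - Multiset.card μ.parts) 0 := ⟨_, Multiset.coe_toList _⟩
  have hl' : l.length = N := by
    have := congrArg Multiset.card hl
    simp only [Multiset.coe_card, Multiset.card_add, Multiset.card_replicate] at this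
    omega
  subst hl'
  refine ⟨l.get ∘ Tuple.sort l.get, Tuple.monotone_sort _, ?_⟩
  rw [← Multiset.map_map, Multiset.map_univ_val_equiv, Fin.univ_val_map, List.ofFn_get,
    hl, Multiset.filter_add, Multiset.filter_eq_self.mpr,
    Multiset.filter_eq_nil.mpr, add_zero]
  · intro a ha
    simp [Multiset.eq_of_mem_replicate ha]
  · intro a ha
    exact (μ.parts_pos ha).ne'

/-- Completeness. -/
theorem exists_ch (hN : Fintype.card Ω ≤ N) {χ : Perm Ω → ℂ} (hχ : IsIrrCharacter (Perm Ω) χ) :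
    ∃ β : Fin N → ℕ, StrictMono β ∧ ∑ i, β i = dg N (Fintype.card Ω) ∧ χ = ch β := by
  let T := {ν : Fin N → ℕ // Monotone ν ∧ ∑ i, ν i = Fintype.card Ω}
  have hs : ∀ ν : T, StrictMono fun i => ν.1 i + i := fun ν _ _ hab =>
    Nat.add_lt_add_of_le_of_lt (ν.2.1 hab.le) hab
  have hd : ∀ ν : T, ∑ i, (ν.1 i + i) = dg N (Fintype.card Ω) := fun ν => by
    rw [sum_add_distrib, ν.2.2, dg]
  let F : T → IrrCharacter (Perm Ω) := fun ν => ⟨ch fun i => ν.1 i + i, isIrr_ch (hd ν) (hs ν)⟩
  have inj : Function.Injective F := by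
    intro a b hab
    have h1 := inner_ch (hd a) (hd b)
    have h2 : classInner (F a).1 (F b).1 = 1 := by rw [hab]; exact H6.irr_inner_self (F b).2
    rw [h2] at h1
    obtain ⟨σ, -, hσ⟩ := exists_ne_zero_of_sum_ne_zero (h1 ▸ one_ne_zero)
    have h3 : (fun i => b.1 i + i) ∘ σ = fun i => a.1 i + i := by
      by_contra h; exact hσ (if_neg h)
    have h4 : StrictMono σ := fun x y hxy => (hs b).lt_iff_lt.mp (by
      have := hs a hxy
      rwa [← h3] at this)
    have h5 : σ = 1 := Equiv.ext fun i => h4.apply_eq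
    subst h5
    refine Subtype.ext (funext fun i => ?_)
    have := congrFun h3 i
    simp only [Perm.coe_one, Function.comp_id] at this
    omega
  haveI : Finite T := Finite.of_injective F inj
  have h1 : Nat.card (ConjClasses (Perm Ω)) ≤ Nat.card (Fintype.card Ω).Partition := by
    refine Nat.card_le_card_of_injective (Quotient.lift (fun g : Perm Ω => g.partition)
      fun a b h => Perm.partition_eq_of_isConj.mp h) fun a b => ?_
    induction a using Quotient.inductionOn
    induction b using Quotient.inductionOn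
    exact fun h => Quotient.sound (Perm.partition_eq_of_isConj.mpr h)
  have h2 : Nat.card (Fintype.card Ω).Partition ≤ Nat.card T := by
    refine Nat.card_le_card_of_surjective (fun ν : T => Nat.Partition.ofSums _ (univ.val.map ν.1)
      ν.2.2) fun μ => ?_
    obtain ⟨ν, h1, h2⟩ := exists_monotone hN μ
    refine ⟨⟨ν, h1, ?_⟩, Nat.Partition.ext h2⟩
    have h3 := congrArg Multiset.sum (Multiset.filter_add_not (· ≠ 0) (univ.val.map ν))
    rw [Multiset.sum_add, h2, μ.parts_sum, Multiset.sum_eq_zero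
      (fun x hx => by simpa using (Multiset.mem_filter.mp hx).2), add_zero] at h3
    exact h3.symm
  have bij : Function.Bijective F := inj.bijective_of_nat_card_le
    (by rw [H6.card_irr_eq_card_conjClasses]; exact h1.trans h2)
  obtain ⟨ν, hν⟩ := bij.2 ⟨χ, hχ⟩
  exact ⟨_, hs ν, hd ν, (congrArg Subtype.val hν).symm⟩

theorem eq_cf (hN : Fintype.card Ω ≤ N) {θ : Perm Ω → ℂ} (hθ : IsClassFunction (Perm Ω) θ) :
    (N.factorial : ℂ) • θ = cf fun β : Fin N → ℕ => classInner θ (ch β) := by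
  refine H6.classFun_ext (fun g h => by simp [hθ g h]) (isClassFunction_cf _) fun χ hχ => ?_
  obtain ⟨β, -, h2, rfl⟩ := exists_ch hN hχ
  rw [(anti_inner θ).inner_cf h2, H6.classInner_smul_left]

/-- The dual Murnaghan–Nakayama rule for a class function vanishing on the elements with a cycle
of length `r`. -/
theorem Dr_inner_eq_zero (hN : Fintype.card Ω ≤ N) {θ : Perm Ω → ℂ}
    (hθ : IsClassFunction (Perm Ω) θ) {r : ℕ} (hr : 0 < r)
    (h0 : ∀ g : Perm Ω, r ∣ orderOf g → θ g = 0) {δ : Fin N → ℕ}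
    (hδ : ∑ i, δ i + r = dg N (Fintype.card Ω)) :
    Dr r (fun β : Fin N → ℕ => classInner θ (ch β)) δ = 0 := by
  by_cases hn : r ≤ Fintype.card Ω
  · obtain ⟨r, rfl⟩ : ∃ s, r = s + 1 := ⟨r - 1, by omega⟩
    obtain ⟨e⟩ : Nonempty (Fin (r + 1) ⊕ Fin (Fintype.card Ω - (r + 1)) ≃ Ω) :=
      Fintype.card_eq.mp (by simp; omega)
    refine ((anti_inner θ).Dr _).eq_zero (Ω := Fin (Fintype.card Ω - (r + 1))) (fun h => ?_)
      (by simp only [dg, Fintype.card_fin] at hδ ⊢; omega)
    have hy : ∀ a b, (finRotate (r + 1)).SameCycle a b := by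
      intro a b
      rcases r with _ | r
      · rw [Subsingleton.elim (α := Fin 1) a b]
      · exact isCycle_finRotate.sameCycle (by simp) (by simp)
    have h1 := cf_cycle (fun β : Fin N → ℕ => classInner θ (ch β)) hy h
    rw [Fintype.card_fin] at h1
    rw [← h1, ← cf_permCongr _ e, ← eq_cf hN hθ, Pi.smul_apply, h0, smul_zero]
    have h2 : orderOf (e.permCongr (Perm.sumCongr (finRotate (r + 1)) h)) =
        orderOf ((finRotate (r + 1), h) : Perm _ × Perm _) :=
      (MulEquiv.orderOf_eq e.permCongrHom _).trans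
        (orderOf_injective (Perm.sumCongrHom _ _) Perm.sumCongrHom_injective (_, _))
    rw [h2, Prod.orderOf]
    refine Dvd.dvd.trans ?_ (Nat.dvd_lcm_left _ _)
    rcases r with _ | r
    · simp
    · rw [isCycle_finRotate.orderOf]; simp
  · refine ((anti_inner θ).Dr _).eq_zero_of_not_inj fun hi => ?_
    have := sum_le_of_inj hi
    rw [dg] at hδ
    omega

/-! ### Orthogonality on the `p`-regular elements -/

/-- The points in cycles of length divisible by `p`. -/
noncomputable def sing (p : ℕ) (g : Perm Ω) : Finset Ω := {x | p ∣ Function.minimalPeriod g x}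

lemma mem_sing {p : ℕ} {g : Perm Ω} {x : Ω} : x ∈ sing p g ↔ p ∣ Function.minimalPeriod g x := by
  simp [sing]

lemma minimalPeriod_semiconj {A B : Type*} {j : A → B} (hj : Function.Injective j) {y : A → A}
    {g : B → B} (h : ∀ a, j (y a) = g (j a)) (a : A) :
    Function.minimalPeriod g (j a) = Function.minimalPeriod y a := by
  refine Function.minimalPeriod_eq_minimalPeriod_iff.mpr fun n => ?_
  rw [Function.IsPeriodicPt, Function.IsPeriodicPt, Function.IsFixedPt, Function.IsFixedPt,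
    ← (Function.Semiconj.iterate_right (f := j) (ga := y) (gb := g) h n).eq, hj.eq_iff]

lemma sing_eq_empty_iff {p : ℕ} (hp : p.Prime) (g : Perm Ω) : sing p g = ∅ ↔ ¬ p ∣ orderOf g := by
  simp only [eq_empty_iff_forall_notMem, mem_sing]
  constructor
  · intro h hd
    have : orderOf g ∣ ∏ x, Function.minimalPeriod g x := by
      refine orderOf_dvd_of_pow_eq_one (Equiv.ext fun x => ?_)
      have := (Function.isPeriodicPt_minimalPeriod g x).trans_dvd
        (dvd_prod_of_mem (fun x => Function.minimalPeriod g x) (mem_univ x))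
      rw [Perm.coe_pow]
      exact this
    obtain ⟨x, -, hx⟩ := (Prime.dvd_finsetProd_iff hp.prime _).mp (hd.trans this)
    exact h x hx
  · intro h x hx
    refine h (hx.trans (Function.IsPeriodicPt.minimalPeriod_dvd ?_))
    rw [Function.IsPeriodicPt, Function.IsFixedPt, ← Perm.coe_pow, pow_orderOf_eq_one]
    rfl

lemma dvd_ty {p : ℕ} {y : Perm Ω} (hy : ∀ x, p ∣ Function.minimalPeriod y x) {f : Ω → Fin N}
    (hf : f ∈ iv N y) (a : Fin N) : p ∣ ty f a := by
  classical
  let q : Ω → MulAction.orbitRel.Quotient (Subgroup.zpowers y) Ω := Quotient.mk _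
  rw [ty, card_eq_sum_card_image q]
  refine dvd_sum fun o ho => ?_
  obtain ⟨x, hx, rfl⟩ := mem_image.mp ho
  have hx' : f x = a := by simpa using hx
  have h1 := MulAction.minimalPeriod_eq_card y x
  have h2 : #{z ∈ ({x | f x = a} : Finset Ω) | q z = q x} =
      Fintype.card (MulAction.orbit (Subgroup.zpowers y) x) := by
    rw [Fintype.card_subtype]
    congr 1
    ext z
    simp only [mem_filter, mem_univ, true_and]
    have e : q z = q x ↔ z ∈ MulAction.orbit (Subgroup.zpowers y) x :=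
      Quotient.eq.trans MulAction.orbitRel_apply
    rw [e, and_iff_right_iff_imp]
    rintro ⟨⟨_, k, rfl⟩, rfl⟩
    obtain ⟨m, hm⟩ := Perm.SameCycle.exists_nat_pow_eq (f := y) (x := x) ⟨k, rfl⟩
    change f ((y ^ k) x) = a
    rw [← hm, ← hx']
    clear hm
    induction m with
    | zero => rfl
    | succ k ih => rw [pow_succ', Perm.mul_apply, mem_iv.mp hf]; exact ih
  rw [h2, ← h1]
  exact hy x

/-- Functions supported on a residue class. -/
def Supp (p : ℕ) (ρ : Fin N → ℕ) (φ : (Fin N → ℕ) → ℂ) : Prop :=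
  ∀ β, φ β ≠ 0 → ∀ i, β i % p = ρ i

lemma Supp.shift {p : ℕ} {ρ : Fin N → ℕ} {φ : (Fin N → ℕ) → ℂ} (h : Supp p ρ φ) {y : Perm Ω}
    (hy : ∀ x, p ∣ Function.minimalPeriod y x) : Supp p ρ fun β => ∑ f ∈ iv N y, φ (β + ty f) := by
  intro β hβ i
  obtain ⟨f, hf, h0⟩ := exists_ne_zero_of_sum_ne_zero hβ
  obtain ⟨k, hk⟩ := dvd_ty hy hf i
  rw [← h _ h0 i, Pi.add_apply, hk, Nat.add_mul_mod_self_left]

lemma sum_sing {p : ℕ} (S : Finset Ω) (F : Perm Ω → ℂ) : ∑ g with sing p g = S, F g =
    ∑ y ∈ univ.filter fun y : Perm {x // x ∈ S} => ∀ x, p ∣ Function.minimalPeriod y x,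
      ∑ h : Perm {x // ¬ x ∈ S} with sing p h = ∅, F (y.subtypeCongr h) := by
  rw [← sum_product']
  have h1 : ∀ (y : Perm {x // x ∈ S}) (h : Perm {x // ¬ x ∈ S}) (a : {x // x ∈ S}),
      Function.minimalPeriod (y.subtypeCongr h) a = Function.minimalPeriod y a := fun y h a =>
    minimalPeriod_semiconj Subtype.val_injective (fun a => by simp) a
  have h2 : ∀ (y : Perm {x // x ∈ S}) (h : Perm {x // ¬ x ∈ S}) (a : {x // ¬ x ∈ S}),
      Function.minimalPeriod (y.subtypeCongr h) a = Function.minimalPeriod h a := fun y h a =>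
    minimalPeriod_semiconj Subtype.val_injective
      (fun a => (Perm.subtypeCongr.right_apply_subtype y h a).symm) a
  symm
  refine sum_bij (fun q _ => q.1.subtypeCongr q.2) (fun q hq => ?_)
    (fun a _ b _ e => Perm.subtypeCongrHom_injective _ e) (fun g hg => ?_) fun _ _ => rfl
  · simp only [mem_product, mem_filter, mem_univ, true_and, eq_empty_iff_forall_notMem,
      mem_sing] at hq ⊢
    ext x
    rw [mem_sing]
    by_cases hx : x ∈ S
    · exact iff_of_true (by rw [h1 _ _ ⟨x, hx⟩]; exact hq.1 _) hx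
    · exact iff_of_false (by rw [h2 _ _ ⟨x, hx⟩]; exact hq.2 _) hx
  · have hg' : sing p g = S := (mem_filter.mp hg).2
    have hP : ∀ x, g x ∈ S ↔ x ∈ S := fun x => by
      rw [← hg', mem_sing, mem_sing, Function.minimalPeriod_apply
        (Function.Injective.mem_periodicPts g.injective x)]
    obtain ⟨y, h, e⟩ : ∃ (y : Perm {x // x ∈ S}) (h : Perm {x // ¬ x ∈ S}),
      y.subtypeCongr h = g := ⟨_, _, subtypeCongr_subtypePerm g hP⟩
    refine ⟨(y, h), ?_, e⟩
    simp only [mem_product, mem_filter, mem_univ, true_and, eq_empty_iff_forall_notMem, mem_sing]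
    refine ⟨fun a => ?_, fun a => ?_⟩
    · rw [← h1 _ h, e, ← mem_sing, hg']; exact a.2
    · rw [← h2 y, e, ← mem_sing, hg']; exact a.2

theorem orth_aux {p : ℕ} {ρ ρ' : Fin N → ℕ} (hρ : ∀ σ : Perm (Fin N), ρ' ∘ σ ≠ ρ) (n : ℕ) :
    ∀ (Ω : Type u) [Fintype Ω] [DecidableEq Ω], Fintype.card Ω = n →
      ∀ φ ψ : (Fin N → ℕ) → ℂ, Supp p ρ φ → Supp p ρ' ψ →
        ∑ g : Perm Ω with sing p g = ∅, cf φ g * conj (cf ψ g) = 0 := by
  induction n using Nat.strong_induction_on with
  | _ n ih =>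
  intro Ω _ _ hn φ ψ hφ hψ
  have h1 : ∑ g : Perm Ω, cf φ g * conj (cf ψ g) = 0 := by
    rw [← H6.card_mul_classInner, cf_eq_sum ψ, H6.classInner_sum_right, sum_eq_zero, mul_zero]
    intro γ hγ
    rw [H6.classInner_smul_right, inner_cf φ (by simpa using hγ)]
    by_cases h0 : ψ γ = 0
    · simp [h0]
    rw [sum_eq_zero, mul_zero]
    intro σ _
    by_contra h
    refine hρ σ (funext fun i => ?_)
    rw [← hφ _ (right_ne_zero_of_mul h) i, Function.comp_apply, ← hψ _ h0]
    rfl
  rw [← sum_fiberwise univ (sing p), sum_eq_single ∅] at h1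
  · exact h1
  · intro S _ hS
    rw [sum_sing]
    refine sum_eq_zero fun y hy => ?_
    have hy' := (mem_filter.mp hy).2
    have e : ∀ (φ : (Fin N → ℕ) → ℂ) (h : Perm {x // ¬ x ∈ S}), cf φ (y.subtypeCongr h) =
        cf (fun β => ∑ f ∈ iv N y, φ (β + ty f)) h := fun φ h =>
      (cf_permCongr φ _ _).trans (cf_sumCongr φ y h)
    simp only [e]
    refine ih _ ?_ _ rfl _ _ (hφ.shift hy') (hψ.shift hy')
    obtain ⟨x, hx⟩ := nonempty_iff_ne_empty.mpr hS
    rw [← hn]
    exact Fintype.card_subtype_lt (x := x) (by simpa using hx)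
  · simp

/-- Characters with different residues are orthogonal on the `p`-regular elements. -/
theorem inner_reg_ch {p : ℕ} (hp : p.Prime) {β γ : Fin N → ℕ}
    (h : classInner (pRegularPart p (ch β : Perm Ω → ℂ)) (ch γ) ≠ 0) :
    ∃ σ : Perm (Fin N), ∀ i, γ (σ i) % p = β i % p := by
  by_contra hc
  refine h ?_
  have := orth_aux (p := p) (ρ := fun i => β i % p) (ρ' := fun i => γ i % p)
    (fun σ e => hc ⟨σ, congrFun e⟩) _ Ω rfl (fun δ => if δ = β then 1 else 0)
    (fun δ => if δ = γ then 1 else 0) (fun δ h => by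
      obtain rfl : δ = β := by simpa using h
      simp) (fun δ h => by
      obtain rfl : δ = γ := by simpa using h
      simp)
  rw [H6.classInner_def, mul_eq_zero]
  refine Or.inr (Eq.trans ?_ this)
  rw [sum_filter]
  refine sum_congr rfl fun g _ => ?_
  simp only [pRegularPart, IsPRegular, sing_eq_empty_iff hp]
  by_cases hg : p ∣ orderOf g
  · simp [hg]
  · simp only [hg, not_false_eq_true, if_true]; rfl

end H33.Sn
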