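import Mathlib
import Cfsg.Agent.Lib.SnRep.MN

/-!
The abacus: runners, cores and the values on a product of `w` disjoint `p`-cycles.
-/

set_option autoImplicit false
set_option linter.unusedSectionVars false
set_option linter.style.haveILetI false

namespace H33.Sn

open Finset Equiv Cfsg H64.GC ComplexConjugate

variable {N : ℕ} {Ω Ω' : Type*} [Fintype Ω] [DecidableEq Ω] [Fintype Ω'] [DecidableEq Ω']

/-- The positions of the beads of the core on their runners. -/
def cc (ρ : Fin N → ℕ) (i : Fin N) : ℕ := #{j | j < i ∧ ρ j = ρ i}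

/-- Sorted on each runner. -/
def RS (ρ b : Fin N → ℕ) : Prop := ∀ i j, i < j → ρ i = ρ j → b i < b j

/-- The bead positions given by runners and positions on the runners. -/
def cfg (p : ℕ) (ρ b : Fin N → ℕ) (i : Fin N) : ℕ := p * b i + ρ i

variable {p : ℕ} {ρ b : Fin N → ℕ}

lemma RS.add_le (h : RS ρ b) {i j : Fin N} (hij : i ≤ j) (e : ρ i = ρ j) :
    b i + cc ρ j ≤ b j + cc ρ i := by
  have h1 : cc ρ j ≤ cc ρ i + #{k | i ≤ k ∧ k < j ∧ ρ k = ρ i} := by
    refine (card_le_card fun k hk => ?_).trans (card_union_le _ _)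
    simp only [mem_filter, mem_univ, true_and, mem_union] at hk ⊢
    rcases lt_or_ge k i with h | h
    · exact Or.inl ⟨h, hk.2.trans e.symm⟩
    · exact Or.inr ⟨h, hk.1, hk.2.trans e.symm⟩
  have h2 : #{k | i ≤ k ∧ k < j ∧ ρ k = ρ i} ≤ #(Ico (b i) (b j)) := by
    refine card_le_card_of_injOn b (fun k hk => ?_) fun k hk l hl hkl => ?_
    · simp only [coe_filter, mem_univ, true_and, Set.mem_ofPred_eq, coe_Ico, Set.mem_Ico] at hk ⊢
      refine ⟨?_, h _ _ hk.2.1 (hk.2.2.trans e)⟩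
      rcases hk.1.eq_or_lt with rfl | h3
      · rfl
      · exact (h _ _ h3 hk.2.2.symm).le
    · simp only [coe_filter, mem_univ, true_and, Set.mem_ofPred_eq] at hk hl
      rcases lt_trichotomy k l with h3 | h3 | h3
      · exact absurd hkl (h _ _ h3 (hk.2.2.trans hl.2.2.symm)).ne
      · exact h3
      · exact absurd hkl (h _ _ h3 (hl.2.2.trans hk.2.2.symm)).ne'
  have h3 : b i ≤ b j := by
    rcases hij.eq_or_lt with rfl | h3
    · rfl
    · exact (h _ _ h3 e).le
  rw [Nat.card_Ico] at h2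
  omega

lemma RS.cc_le (h : RS ρ b) (i : Fin N) : cc ρ i ≤ b i := by
  have : cc ρ i ≤ #(range (b i)) := by
    refine card_le_card_of_injOn b (fun k hk => ?_) fun k hk l hl hkl => ?_
    · simp only [coe_filter, mem_univ, true_and, Set.mem_ofPred_eq, coe_range, Set.mem_Iio] at hk ⊢
      exact h _ _ hk.1 hk.2
    · simp only [coe_filter, mem_univ, true_and, Set.mem_ofPred_eq] at hk hl
      rcases lt_trichotomy k l with h3 | h3 | h3
      · exact absurd hkl (h _ _ h3 (hk.2.trans hl.2.symm)).ne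
      · exact h3
      · exact absurd hkl (h _ _ h3 (hl.2.trans hk.2.symm)).ne'
  simpa using this

lemma rs_cc (ρ : Fin N → ℕ) : RS ρ (cc ρ) := by
  intro i j hij e
  refine card_lt_card ⟨fun k hk => ?_, fun h => ?_⟩
  · simp only [mem_filter, mem_univ, true_and] at hk ⊢
    exact ⟨hk.1.trans hij, hk.2.trans e⟩
  · simpa using h (show i ∈ _ by simpa using ⟨hij, e⟩)

lemma cfg_mod (hρ : ∀ i, ρ i < p) (i : Fin N) : cfg p ρ b i % p = ρ i := by
  rw [cfg, Nat.mul_add_mod, Nat.mod_eq_of_lt (hρ i)]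

lemma cfg_div (hρ : ∀ i, ρ i < p) (i : Fin N) : cfg p ρ b i / p = b i := by
  rw [cfg, Nat.mul_add_div (Nat.zero_lt_of_lt (hρ i)), Nat.div_eq_of_lt (hρ i), add_zero]

lemma cfg_eq_iff (hρ : ∀ i, ρ i < p) {b' : Fin N → ℕ} {i j : Fin N} :
    cfg p ρ b i = cfg p ρ b' j ↔ ρ i = ρ j ∧ b i = b' j := by
  refine ⟨fun h => ⟨?_, ?_⟩, fun h => by rw [cfg, cfg, h.1, h.2]⟩
  · rw [← cfg_mod (b := b) hρ, h, cfg_mod hρ]
  · rw [← cfg_div (b := b) hρ, h, cfg_div hρ]

lemma RS.inj (hρ : ∀ i, ρ i < p) (h : RS ρ b) : Function.Injective (cfg p ρ b) := by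
  intro i j e
  obtain ⟨e1, e2⟩ := (cfg_eq_iff hρ).mp e
  rcases lt_trichotomy i j with h3 | h3 | h3
  · exact absurd e2 (h _ _ h3 e1).ne
  · exact h3
  · exact absurd e2 (h _ _ h3 e1.symm).ne'

lemma sum_cfg (p : ℕ) (ρ b : Fin N → ℕ) : ∑ i, cfg p ρ b i = p * ∑ i, b i + ∑ i, ρ i := by
  simp [cfg, sum_add_distrib, mul_sum]

/-- Sorting on the runners. -/
lemma exists_rs (hρ : ∀ i, ρ i < p) (h : Function.Injective (cfg p ρ b)) :
    ∃ τ : Perm (Fin N), (∀ i, ρ (τ i) = ρ i) ∧ RS ρ (b ∘ τ) := by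
  let f : Fin N → ℕ ×ₗ ℕ := fun i => toLex (ρ i, b i)
  let g : Fin N → ℕ ×ₗ Fin N := fun i => toLex (ρ i, i)
  have hf := Tuple.monotone_sort f
  have hg := Tuple.monotone_sort g
  have e : ρ ∘ Tuple.sort f = ρ ∘ Tuple.sort g :=
    Tuple.unique_monotone (fun a c hac => Prod.Lex.monotone_fst _ _ (hf hac))
      fun a c hac => Prod.Lex.monotone_fst _ _ (hg hac)
  have e' : ∀ i, ρ (Tuple.sort f ((Tuple.sort g).symm i)) = ρ i := fun i => by
    simpa using congrFun e ((Tuple.sort g).symm i)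
  refine ⟨(Tuple.sort g).symm.trans (Tuple.sort f), e', fun i j hij hr => ?_⟩
  have h1 : (Tuple.sort g).symm i < (Tuple.sort g).symm j := by
    by_contra hc
    have := hg (not_lt.mp hc)
    simp only [Function.comp_apply, apply_symm_apply, g, hr, Prod.Lex.toLex_le_toLex, lt_irrefl,
      true_and, false_or] at this
    exact absurd hij (not_lt.mpr this)
  have h2 := hf h1.le
  simp only [Function.comp_apply, f, e', hr, Prod.Lex.toLex_le_toLex, lt_irrefl, true_and,
    false_or] at h2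
  refine lt_of_le_of_ne h2 fun h3 => h1.ne ((Tuple.sort f).injective (h ?_))
  exact (cfg_eq_iff hρ).mpr ⟨by rw [e', e', hr], h3⟩

lemma cfg_comp {τ : Perm (Fin N)} (h : ∀ i, ρ (τ i) = ρ i) :
    cfg p ρ b ∘ τ = cfg p ρ (b ∘ τ) := by
  funext i
  simp [cfg, h]

lemma exists_cfg (hρ : ∀ i, ρ i < p) {β : Fin N → ℕ} (hβ : Function.Injective β)
    {σ : Perm (Fin N)} (h : ∀ i, β (σ i) % p = ρ i) :
    ∃ (τ : Perm (Fin N)) (b : Fin N → ℕ), RS ρ b ∧ β ∘ τ = cfg p ρ b := by
  have e : β ∘ σ = cfg p ρ fun i => β (σ i) / p := by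
    funext i
    rw [cfg, ← h, Nat.div_add_mod]; rfl
  obtain ⟨τ, h1, h2⟩ := exists_rs hρ (e ▸ hβ.comp σ.injective)
  exact ⟨σ * τ, _, h2, by rw [Perm.coe_mul, ← Function.comp_assoc, e, cfg_comp h1]⟩

/-- Murnaghan–Nakayama for a single character. -/
theorem ch_cycle [Nonempty Ω] (β : Fin N → ℕ) {y : Perm Ω} (hy : ∀ a b, y.SameCycle a b)
    (h : Perm Ω') : ch β (Perm.sumCongr y h) = ∑ i, if Fintype.card Ω ≤ β i then
      ch (Function.update β i (β i - Fintype.card Ω)) h else 0 := by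
  rw [ch, cf_cycle _ hy]
  unfold Dr
  rw [cf_sum]
  refine sum_congr rfl fun i _ => ?_
  split_ifs with hi
  · rw [ch]
    congr 1
    funext γ
    refine if_congr ?_ rfl rfl
    simp only [funext_iff, Pi.add_apply]
    refine forall_congr' fun j => ?_
    by_cases hj : j = i
    · subst hj; simp; omega
    · simp [hj]
  · refine cf_eq_zero (fun γ _ => if_neg fun e => hi ?_) h
    rw [← e]; simp

lemma update_cfg (i : Fin N) {k : ℕ} (hk : k ≤ b i) :
    Function.update (cfg p ρ b) i (cfg p ρ b i - p * k) =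
      cfg p ρ (Function.update b i (b i - k)) := by
  funext j
  by_cases hj : j = i
  · subst hj
    obtain ⟨c, hc⟩ := Nat.exists_eq_add_of_le hk
    simp only [Function.update_self, cfg, hc, mul_add, Nat.add_sub_cancel_left]
    omega
  · simp [cfg, hj]

lemma le_cfg_iff (hρ : ∀ i, ρ i < p) (i : Fin N) (k : ℕ) : p * k ≤ cfg p ρ b i ↔ k ≤ b i := by
  rw [mul_comm, ← Nat.le_div_iff_mul_le (Nat.zero_lt_of_lt (hρ i)), cfg_div hρ]

theorem ch_cfg_cycle [Nonempty Ω] (hρ : ∀ i, ρ i < p) {y : Perm Ω} (hy : ∀ a b, y.SameCycle a b)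
    {k : ℕ} (hk : Fintype.card Ω = p * k) (h : Perm Ω') :
    ch (cfg p ρ b) (Perm.sumCongr y h) = ∑ i, if k ≤ b i then
      ch (cfg p ρ (Function.update b i (b i - k))) h else 0 := by
  rw [ch_cycle _ hy, hk]
  refine sum_congr rfl fun i _ => ?_
  simp only [le_cfg_iff hρ]
  split_ifs with hi
  · rw [update_cfg i hi]
  · rfl

/-- Translations on `W × V`. -/
def tr (W V : Type*) [AddCommGroup V] : Multiplicative (W → V) →* Perm (W × V) where
  toFun a := Equiv.prodCongrRight fun i => Equiv.addRight (a.toAdd i)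
  map_one' := by ext <;> simp
  map_mul' a b := by ext <;> simp [add_comm, add_left_comm]

@[simp] lemma tr_apply {W V : Type*} [AddCommGroup V] (a : Multiplicative (W → V)) (x : W × V) :
    tr W V a x = (x.1, x.2 + a.toAdd x.1) := rfl

lemma tr_injective (W V : Type*) [AddCommGroup V] : Function.Injective (tr W V) := by
  intro a b h
  ext i
  simpa using congrArg (fun g => (g (i, 0)).2) h

/-- The product of `w` disjoint `p`-cycles. -/
def uu (w p : ℕ) : Perm (Fin w × ZMod p) := tr _ _ (Multiplicative.ofAdd fun _ => 1)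

lemma sameCycle_addRight (p : ℕ) [NeZero p] (a b : ZMod p) :
    Perm.SameCycle (Equiv.addRight (1 : ZMod p)) a b :=
  ⟨((b - a).val : ℕ), by simp⟩

lemma lower_rs (hρ : ∀ i, ρ i < p) (h : RS ρ b) (i : Fin N) (hi : 1 ≤ b i) :
    RS ρ (Function.update b i (b i - 1)) ∨
      ¬ Function.Injective (cfg p ρ (Function.update b i (b i - 1))) := by
  by_cases hc : ∃ j, j < i ∧ ρ j = ρ i ∧ b j + 1 = b i
  · obtain ⟨j, h1, h2, h3⟩ := hc
    refine Or.inr fun hi => h1.ne (hi ((cfg_eq_iff hρ).mpr ⟨h2, ?_⟩))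
    simp [h1.ne]; omega
  · refine Or.inl fun j k hjk e => ?_
    have := h j k hjk e
    by_cases hj : j = i
    · subst hj; simp [hjk.ne']; omega
    · by_cases hk : k = i
      · subst hk
        have : b j + 1 ≠ b k := fun h => hc ⟨j, hjk, e, h⟩
        simp [hj]; omega
      · simpa [hj, hk]

lemma exists_lower (h : RS ρ b) (hne : b ≠ cc ρ) :
    ∃ i, 1 ≤ b i ∧ RS ρ (Function.update b i (b i - 1)) := by
  obtain ⟨i, hi, hmin⟩ := exists_min_image (univ.filter fun i => b i ≠ cc ρ i) id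
    (by
      obtain ⟨i, hi⟩ := Function.ne_iff.mp hne
      exact ⟨i, by simpa using hi⟩)
  have h1 : cc ρ i < b i := lt_of_le_of_ne (h.cc_le i) (Ne.symm (by simpa using hi))
  refine ⟨i, by omega, fun j k hjk e => ?_⟩
  have := h j k hjk e
  by_cases hj : j = i
  · subst hj; simp [hjk.ne']; omega
  · by_cases hk : k = i
    · subst hk
      have h2 : b j = cc ρ j := by
        by_contra hc
        exact absurd hjk (not_lt.mpr (hmin j (by simpa using hc)))
      have := rs_cc ρ j k hjk e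
      simp [hj]; omega
    · simpa [hj, hk]

lemma sum_update_sub (i : Fin N) {k : ℕ} (hk : k ≤ b i) :
    ∑ j, Function.update b i (b i - k) j + k = ∑ j, b j := by
  rw [sum_update_of_mem (mem_univ i), ← add_sum_erase _ _ (mem_univ i), sdiff_singleton_eq_erase]
  omega

/-- Splitting off one cycle. -/
def splitE (w : ℕ) (V Z : Type*) : V ⊕ (Fin w × V ⊕ Z) ≃ Fin (w + 1) × V ⊕ Z where
  toFun := Sum.elim (fun v => .inl (0, v)) (Sum.map (fun x => (x.1.succ, x.2)) id)
  invFun := Sum.elim (fun x => Fin.cases (.inl x.2) (fun i => .inr (.inl (i, x.2))) x.1)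
    fun z => .inr (.inr z)
  left_inv := by rintro (v | ⟨i, v⟩ | z) <;> simp
  right_inv := by
    rintro (⟨i, v⟩ | z)
    · induction i using Fin.cases <;> simp
    · simp

lemma uu_succ (w : ℕ) (h : Perm Ω') : Perm.sumCongr (uu (w + 1) p) h = (splitE w _ _).permCongr
    (Perm.sumCongr (Equiv.addRight (1 : ZMod p)) (Perm.sumCongr (uu w p) h)) := by
  ext x
  obtain ⟨x, rfl⟩ := (splitE w _ _).surjective x
  rw [permCongr_apply, symm_apply_apply]
  rcases x with (v | ⟨i, v⟩ | z) <;> simp [splitE, uu]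

/-- The value on a product of `w` disjoint `p`-cycles. -/
theorem ch_uu [NeZero p] (hρ : ∀ i, ρ i < p) (w : ℕ) : ∀ b : Fin N → ℕ, RS ρ b →
    ∑ i, b i = w + ∑ i, cc ρ i → ∃ m : ℕ, 0 < m ∧ ∀ h : Perm Ω',
      ch (cfg p ρ b) (Perm.sumCongr (uu w p) h) = m * ch (cfg p ρ (cc ρ)) h := by
  induction w with
  | zero =>
    intro b hb hs
    have : b = cc ρ := funext fun i =>
      ((sum_eq_sum_iff_of_le fun i _ => hb.cc_le i).mp (by simpa using hs.symm) i (mem_univ i)).symm
    refine ⟨1, one_pos, fun h => ?_⟩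
    rw [this, Nat.cast_one, one_mul, ch, cf_sumCongr]
    congr 1
    funext β
    rw [sum_eq_single_of_mem (fun x => x.1.elim0) (by simp [mem_iv]) fun f _ hf =>
      (hf (Subsingleton.elim _ _)).elim]
    have e : β + ty (fun x : Fin 0 × ZMod p => (x.1.elim0 : Fin N)) = β := by
      ext a
      simp [ty]
    rw [e]
  | succ w ih =>
    intro b hb hs
    have key : ∀ i, ∃ m : ℕ, (1 ≤ b i → RS ρ (Function.update b i (b i - 1)) → 0 < m) ∧
        ∀ h : Perm Ω', (if 1 ≤ b i then ch (cfg p ρ (Function.update b i (b i - 1)))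
          (Perm.sumCongr (uu w p) h) else 0) = m * ch (cfg p ρ (cc ρ)) h := by
      intro i
      by_cases hi : 1 ≤ b i
      · rcases lower_rs hρ hb i hi with h1 | h1
        · obtain ⟨m, hm, h2⟩ := ih _ h1 (by have := sum_update_sub i hi; omega)
          exact ⟨m, fun _ _ => hm, fun h => by rw [if_pos hi, h2]⟩
        · exact ⟨0, fun _ h2 => absurd (h2.inj hρ) h1, fun h => by simp [ch_eq_zero h1]⟩
      · exact ⟨0, fun h => absurd h hi, fun h => by simp [hi]⟩
    choose m hm1 hm2 using key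
    obtain ⟨i, h1, h2⟩ := exists_lower hb (by rintro rfl; omega)
    refine ⟨∑ i, m i, sum_pos' (fun _ _ => Nat.zero_le _) ⟨i, mem_univ _, hm1 i h1 h2⟩, fun h => ?_⟩
    rw [uu_succ, ch, cf_permCongr, ← ch, ch_cfg_cycle hρ (sameCycle_addRight p) (k := 1) (by simp)]
    simp only [hm2, Nat.cast_sum, sum_mul]

end H33.Sn
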