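import Mathlib
import Cfsg.Agent.Lib.SnRep.Core

/-!
The number of Brauer characters attached to a core is at most the number of bead configurations
with empty quotient on the first runner.
-/

set_option autoImplicit false
set_option linter.unusedSectionVars false
set_option linter.style.haveILetI false

namespace H33.Sn

open Finset Equiv Cfsg H64.GC ComplexConjugate

variable {N : ℕ} {Ω : Type*} [Fintype Ω] [DecidableEq Ω] {p : ℕ} {ρ : Fin N → ℕ}

variable (Ω) in
/-- Class functions supported on the `p`-regular elements and attached to the residues `ρ`. -/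
def UU (p : ℕ) (ρ : Fin N → ℕ) : Submodule ℂ (Perm Ω → ℂ) where
  carrier := {θ | IsClassFunction (Perm Ω) θ ∧ (∀ g, p ∣ orderOf g → θ g = 0) ∧
    ∀ γ : Fin N → ℕ, classInner θ (ch γ) ≠ 0 → ∃ σ : Perm (Fin N), ∀ i, γ (σ i) % p = ρ i}
  add_mem' := by
    rintro a b ⟨a1, a2, a3⟩ ⟨b1, b2, b3⟩
    refine ⟨H6.isClassFunction_add a1 b1, fun g hg => by simp [a2 g hg, b2 g hg], fun γ h => ?_⟩
    rw [H6.classInner_add_left] at h
    by_cases h1 : classInner a (ch γ) = 0
    · exact b3 γ (by simpa [h1] using h)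
    · exact a3 γ h1
  zero_mem' := ⟨fun _ _ => rfl, fun _ _ => rfl, fun γ h => (h (H6.classInner_zero_left _)).elim⟩
  smul_mem' := by
    rintro c a ⟨a1, a2, a3⟩
    refine ⟨fun g h => by simp [a1 g h], fun g hg => by simp [a2 g hg], fun γ h => ?_⟩
    rw [H6.classInner_smul_left] at h
    exact a3 γ (right_ne_zero_of_mul h)

lemma reg_mem_UU (hp : p.Prime) (hρ : ∀ i, ρ i < p) (b : Fin N → ℕ) :
    pRegularPart p (ch (cfg p ρ b)) ∈ UU Ω p ρ := by
  refine ⟨fun g h => ?_, fun g hg => by simp [pRegularPart, IsPRegular, hg], fun γ h => ?_⟩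
  · have : orderOf (h * g * h⁻¹) = orderOf g := (MulAut.conj h).orderOf_eq g
    simp only [pRegularPart, IsPRegular, this, ch, isClassFunction_cf _ g h]
    congr
  · simpa only [cfg_mod hρ] using inner_reg_ch hp h

/-- The configurations with nothing moved on the first runner. -/
def TT (ρ : Fin N → ℕ) (w : ℕ) : Set (Fin N → ℕ) :=
  {b | RS ρ b ∧ ∑ i, b i = w + ∑ i, cc ρ i ∧ ∀ i, ρ i = 0 → b i = cc ρ i}

theorem zero_aux (hρ : ∀ i, ρ i < p) {w D : ℕ} (hD : p * (w + ∑ i, cc ρ i) + ∑ i, ρ i = D)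
    {φ : (Fin N → ℕ) → ℂ} (hφ : Anti φ)
    (hR : ∀ k, 0 < k → ∀ δ : Fin N → ℕ, ∑ i, δ i + p * k = D → Dr (p * k) φ δ = 0)
    (hT : ∀ b ∈ TT ρ w, φ (cfg p ρ b) = 0) (m : ℕ) : ∀ b : Fin N → ℕ,
      ∑ i, b i = w + ∑ i, cc ρ i → ∑ i with ρ i = 0, b i = m → φ (cfg p ρ b) = 0 := by
  induction m using Nat.strong_induction_on with
  | _ m ih =>
  intro b hb hm
  set F : Finset (Fin N) := {i | ρ i = 0} with hF
  have memF : ∀ i, i ∈ F ↔ ρ i = 0 := by simp [hF]
  by_cases hle : m ≤ ∑ i ∈ F, cc ρ i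
  · by_cases hi : Function.Injective (cfg p ρ b)
    swap
    · exact hφ.eq_zero_of_not_inj hi
    obtain ⟨τ, h1, h2⟩ := exists_rs hρ hi
    have h3 : ∑ i ∈ F, b (τ i) = m := by
      rw [← hm]
      exact sum_equiv τ (by simp [memF, h1]) fun _ _ => rfl
    have h4 := hT (b ∘ τ) ⟨h2, by rw [← hb]; exact Equiv.sum_comp τ b, fun i hi =>
      ((sum_eq_sum_iff_of_le fun i _ => h2.cc_le i).mp
        (le_antisymm (sum_le_sum fun i _ => h2.cc_le i) (h3.trans_le hle)) i ((memF i).mpr hi)).symm⟩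
    rw [← cfg_comp h1, hφ] at h4
    exact (mul_eq_zero.mp h4).resolve_left (sg_ne_zero _)
  let e : Fin #F ≃ F := F.equivFin.symm
  let ext : (Fin #F → ℕ) → Fin N → ℕ := fun γ i => if h : i ∈ F then γ (e.symm ⟨i, h⟩) else b i
  have ext1 : ∀ γ a, ext γ (e a) = γ a := fun γ a => by simp [ext]
  have ext2 : ∀ γ i, i ∉ F → ext γ i = b i := fun γ i h => by simp [ext, h]
  have sumF : ∀ f : Fin N → ℕ, ∑ i ∈ F, f i = ∑ a, f (e a) := fun f => by
    rw [← sum_coe_sort F f, ← Equiv.sum_comp e]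
  have hC : ∑ a : Fin #F, (a : ℕ) ≤ ∑ i ∈ F, cc ρ i := by
    rw [sumF]
    refine sum_le_of_inj fun a c hac => e.injective (Subtype.ext ((rs_cc ρ).inj hρ ?_))
    exact (cfg_eq_iff hρ).mpr ⟨((memF _).mp (e a).2).trans ((memF _).mp (e c).2).symm, hac⟩
  have hb' : ext (fun a => b (e a)) = b := by
    funext i
    by_cases h : i ∈ F <;> simp [ext, h]
  have hanti : Anti fun γ => φ (cfg p ρ (ext γ)) := by
    refine anti_of_swap fun γ i j hij => ?_
    have hij' : (e i : Fin N) ≠ e j := fun h => hij (e.injective (Subtype.ext h))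
    have h1 : ∀ k, ρ (swap (e i : Fin N) (e j) k) = ρ k := fun k => by
      have := (memF _).mp (e i).2
      have := (memF _).mp (e j).2
      rw [swap_apply_def]
      split_ifs <;> simp [*]
    have h2 : ext (γ ∘ swap i j) = ext γ ∘ swap (e i : Fin N) (e j) := by
      funext k
      by_cases hk : k ∈ F
      · obtain ⟨a, rfl⟩ : ∃ a, (e a : Fin N) = k := ⟨e.symm ⟨k, hk⟩, by simp⟩
        rw [ext1, Function.comp_apply, Function.comp_apply, ← ext1 γ]
        congr 1
        exact (Function.Injective.swap_apply (f := fun a => (e a : Fin N))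
          (Subtype.val_injective.comp e.injective) i j a).symm
      · rw [Function.comp_apply, swap_apply_of_ne_of_ne, ext2 _ _ hk, ext2 _ _ hk]
        · rintro rfl; exact hk (e i).2
        · rintro rfl; exact hk (e j).2
    rw [h2, ← cfg_comp h1, hφ, sg, Perm.sign_swap hij']
    simp
  rw [← hb']
  refine hanti.eq_zero_of_Dr (m := m - ∑ a : Fin #F, (a : ℕ)) (by omega) (fun k hk δ hδ => ?_)
    (by rw [← sumF, hm, dg]; omega)
  have hδ' : ∑ a, δ a + k = m := by rw [hδ, dg]; omega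
  have s1 : ∑ i ∈ F, ext δ i = ∑ a, δ a := by simp only [sumF, ext1]
  have s2 : ∑ i, ext δ i + k = w + ∑ i, cc ρ i := by
    have t1 := sum_add_sum_compl F (ext δ)
    have t2 := sum_add_sum_compl F b
    have t3 : ∑ i ∈ Fᶜ, ext δ i = ∑ i ∈ Fᶜ, b i :=
      sum_congr rfl fun i hi => ext2 δ i (mem_compl.mp hi)
    omega
  have s3 : ∀ i, cfg p ρ (ext δ) + Pi.single i (p * k) = cfg p ρ (ext δ + Pi.single i k) := by
    intro i
    funext j
    by_cases hj : j = i
    · subst hj; simp [cfg]; ring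
    · simp [cfg, hj]
  have h1 := hR k hk (cfg p ρ (ext δ)) (by rw [sum_cfg, ← hD, ← s2]; ring)
  rw [Dr, ← sum_add_sum_compl F, sum_eq_zero (s := Fᶜ), add_zero, ← sum_coe_sort F,
    ← Equiv.sum_comp e] at h1
  · rw [Dr, ← h1]
    refine sum_congr rfl fun a _ => ?_
    rw [s3]
    congr 2
    funext j
    by_cases hj : j ∈ F
    · obtain ⟨c, rfl⟩ : ∃ c, (e c : Fin N) = j := ⟨e.symm ⟨j, hj⟩, by simp⟩
      simp [ext1, Pi.single_apply]
    · have : j ≠ e a := by rintro rfl; exact hj (e a).2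
      simp [ext2 _ _ hj, this]
  · intro i hi
    rw [s3]
    refine ih (∑ a, δ a) (by omega) _ (by simp [sum_add_distrib, s2]) ?_
    rw [← s1]
    refine sum_congr rfl fun j hj => ?_
    have : j ≠ i := by rintro rfl; exact mem_compl.mp hi hj
    simp [this]

lemma TT_finite (ρ : Fin N → ℕ) (w : ℕ) : (TT ρ w).Finite :=
  (piAntidiag univ (w + ∑ i, cc ρ i)).finite_toSet.subset fun b hb => by simpa using hb.2.1

theorem finrank_UU (hp : p.Prime) (hρ : ∀ i, ρ i < p) (hN : Fintype.card Ω ≤ N) {w : ℕ}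
    (hD : p * (w + ∑ i, cc ρ i) + ∑ i, ρ i = dg N (Fintype.card Ω)) :
    Module.finrank ℂ (UU Ω p ρ) ≤ (TT ρ w).ncard := by
  haveI := (TT_finite ρ w).fintype
  let Φ : UU Ω p ρ →ₗ[ℂ] (TT ρ w → ℂ) :=
    { toFun := fun θ b => classInner θ.1 (ch (cfg p ρ b))
      map_add' := fun a b => funext fun _ => H6.classInner_add_left _ _ _
      map_smul' := fun c a => funext fun _ => H6.classInner_smul_left _ _ _ }
  have inj : Function.Injective Φ := by
    rw [injective_iff_map_eq_zero]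
    rintro ⟨θ, h1, h2, h3⟩ h
    refine Subtype.ext (H6.classFun_eq_zero_of_inner h1 fun χ hχ => ?_)
    obtain ⟨γ, g1, g2, rfl⟩ := exists_ch hN hχ
    by_contra hc
    obtain ⟨σ, hσ⟩ := h3 γ hc
    obtain ⟨τ, b, -, e⟩ := exists_cfg hρ g1.injective hσ
    have hb : ∑ i, b i = w + ∑ i, cc ρ i := by
      rw [← Equiv.sum_comp τ γ, ← hD] at g2
      have : ∑ i, γ (τ i) = _ := e ▸ sum_cfg p ρ b
      exact Nat.eq_of_mul_eq_mul_left hp.pos (by omega)
    have := zero_aux hρ hD (anti_inner θ) (fun k hk δ hδ => Dr_inner_eq_zero hN h1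
      (Nat.mul_pos hp.pos hk) (fun g hg => h2 g ((dvd_mul_right _ _).trans hg)) hδ)
      (fun b hb => congrFun h ⟨b, hb⟩) _ b hb rfl
    rw [← e] at this
    exact mul_ne_zero (sg_ne_zero _) hc ((anti_inner θ γ τ).symm.trans this)
  have := LinearMap.finrank_le_finrank_of_injective inj
  rwa [Module.finrank_fintype_fun_eq_card, ← Nat.card_eq_fintype_card, Nat.card_coe_set_eq] at this

end H33.Sn
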