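import Mathlib
import Cfsg.Agent.Lib.SnRep.Rank

/-!
Counting multipartitions.
-/

set_option autoImplicit false
set_option linter.unusedSectionVars false
set_option linter.style.haveILetI false

namespace H33.Sn

open Finset

/-- Multipartitions of `w` with `p - 1` components. -/
def MT (p w : ℕ) : Set (Multiset (ℕ × ℕ)) :=
  {M | (∀ x ∈ M, x.1 ∈ Ico 1 p ∧ 0 < x.2) ∧ (M.map Prod.snd).sum = w}

lemma MT.card_le {p w : ℕ} {M : Multiset (ℕ × ℕ)} (h : M ∈ MT p w) : Multiset.card M ≤ w := by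
  have := Multiset.card_nsmul_le_sum (s := M.map Prod.snd) (a := 1) fun x hx => by
    obtain ⟨y, hy, rfl⟩ := Multiset.mem_map.mp hx
    exact (h.1 y hy).2
  simpa [h.2] using this

lemma MT_zero (p : ℕ) : MT p 0 = {0} := by
  ext M
  refine ⟨fun h => by simpa using MT.card_le h, ?_⟩
  rintro rfl
  simp [MT]

open Classical in
/-- Adding a node. -/
noncomputable def grow (q : ℕ × Multiset (ℕ × ℕ)) : Multiset (ℕ × ℕ) :=
  if q.1 = 0 then (if h : ∃ x ∈ q.2, ∀ y ∈ q.2, toLex x ≤ toLex y then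
    (h.choose.1, h.choose.2 + 1) ::ₘ q.2.erase h.choose else 0) else (q.1, 1) ::ₘ q.2

lemma MT_succ (p w : ℕ) : MT p (w + 1) ⊆ grow '' (Set.Iio p ×ˢ MT p w) := by
  classical
  intro M hM
  by_cases h1 : ∃ x ∈ M, x.2 = 1
  · obtain ⟨⟨r, k⟩, hx, rfl⟩ := h1
    have hr := (hM.1 _ hx).1
    simp only [mem_Ico] at hr
    refine ⟨(r, M.erase (r, 1)), ⟨hr.2, fun x hx => hM.1 x (Multiset.mem_of_mem_erase hx), ?_⟩, ?_⟩
    · have := hM.2
      rw [← Multiset.cons_erase hx, Multiset.map_cons, Multiset.sum_cons] at this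
      simp only at this ⊢
      omega
    · simp only [grow, show r ≠ 0 by omega, if_false, Multiset.cons_erase hx]
  · have hne : M.toFinset.Nonempty := by
      rw [Multiset.toFinset_nonempty]
      rintro rfl
      simpa using hM.2
    obtain ⟨⟨r, k⟩, hx, hmin⟩ := exists_min_image M.toFinset toLex hne
    simp only [Multiset.mem_toFinset] at hx hmin
    have hk : 2 ≤ k := by
      have := (hM.1 _ hx).2
      have : k ≠ 1 := fun h => h1 ⟨_, hx, h⟩
      simp only at *
      omega
    have hr := (hM.1 _ hx).1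
    have hmin' : ∀ y ∈ (r, k - 1) ::ₘ M.erase (r, k), toLex (r, k - 1) ≤ toLex y := by
      intro y hy
      rcases Multiset.mem_cons.mp hy with rfl | hy
      · rfl
      · exact le_trans (by simp [Prod.Lex.toLex_le_toLex]) (hmin y (Multiset.mem_of_mem_erase hy))
    refine ⟨(0, (r, k - 1) ::ₘ M.erase (r, k)), ⟨by simp at hr ⊢; omega, fun x hx => ?_, ?_⟩, ?_⟩
    · rcases Multiset.mem_cons.mp hx with rfl | hx
      · exact ⟨hr, by simp; omega⟩
      · exact hM.1 x (Multiset.mem_of_mem_erase hx)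
    · have := hM.2
      rw [← Multiset.cons_erase hx, Multiset.map_cons, Multiset.sum_cons] at this
      simp only [Multiset.map_cons, Multiset.sum_cons] at this ⊢
      omega
    · have h : ∃ x ∈ (r, k - 1) ::ₘ M.erase (r, k), ∀ y ∈ (r, k - 1) ::ₘ M.erase (r, k),
          toLex x ≤ toLex y := ⟨_, Multiset.mem_cons_self _ _, hmin'⟩
      have e : h.choose = (r, k - 1) := toLex.injective (le_antisymm
        (h.choose_spec.2 _ (Multiset.mem_cons_self _ _)) (hmin' _ h.choose_spec.1))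
      simp only [grow, if_true, dif_pos h, e, Multiset.erase_cons_head,
        Nat.sub_add_cancel (show 1 ≤ k by omega), Multiset.cons_erase hx]

lemma MT_finite (p w : ℕ) : (MT p w).Finite := by
  induction w with
  | zero => rw [MT_zero]; exact Set.finite_singleton _
  | succ w ih => exact (((Set.finite_Iio p).prod ih).image _).subset (MT_succ p w)

lemma ncard_MT_succ (p w : ℕ) : (MT p (w + 1)).ncard ≤ p * (MT p w).ncard := by
  have hf := (Set.finite_Iio p).prod (MT_finite p w)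
  refine (Set.ncard_le_ncard (MT_succ p w) (hf.image _)).trans ((Set.ncard_image_le hf).trans ?_)
  rw [Set.ncard_prod]
  simp

lemma ncard_MT_add (p w k : ℕ) : (MT p (w + k)).ncard ≤ p ^ k * (MT p w).ncard := by
  induction k with
  | zero => simp
  | succ k ih =>
    refine (ncard_MT_succ p (w + k)).trans ?_
    rw [pow_succ', mul_assoc]
    exact Nat.mul_le_mul_left _ ih

lemma ncard_MT_one (p : ℕ) : (MT p 1).ncard ≤ p - 1 := by
  have : MT p 1 ⊆ (fun r => {(r, 1)}) '' (Ico 1 p : Finset ℕ) := by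
    intro M hM
    have h1 : Multiset.card M = 1 := by
      have := MT.card_le hM
      have : M ≠ 0 := by rintro rfl; simpa using hM.2
      have := Multiset.card_pos.mpr this
      omega
    obtain ⟨⟨r, k⟩, rfl⟩ := Multiset.card_eq_one.mp h1
    obtain rfl : k = 1 := by simpa using hM.2
    exact ⟨r, (hM.1 _ (Multiset.mem_singleton_self _)).1, rfl⟩
  refine (Set.ncard_le_ncard this ((finite_toSet _).image _)).trans
    ((Set.ncard_image_le (finite_toSet _)).trans ?_)
  simp

lemma ncard_MT_three {p : ℕ} (hp : 0 < p) : 2 * (MT p 3).ncard < p ^ 3 := by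
  classical
  obtain ⟨r, rfl⟩ : ∃ r, p = r + 1 := ⟨p - 1, by omega⟩
  let A : Finset (Multiset (ℕ × ℕ)) := (Ico 1 (r + 1)).image fun a => {(a, 3)}
  let B : Finset (Multiset (ℕ × ℕ)) :=
    (Ico 1 (r + 1) ×ˢ Ico 1 (r + 1)).image fun a => {(a.1, 2), (a.2, 1)}
  let C : Finset (Multiset (ℕ × ℕ)) :=
    univ.image fun s : Sym (Fin r) 3 => s.1.map fun a => ((a : ℕ) + 1, 1)
  have h : MT (r + 1) 3 ⊆ (A ∪ B ∪ C : Finset _) := by
    intro M hM
    simp only [coe_union, Set.mem_union, mem_coe]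
    have h0 := MT.card_le hM
    have h1 : M ≠ 0 := by rintro rfl; simpa using hM.2
    have h2 := Multiset.card_pos.mpr h1
    obtain h | h | h : Multiset.card M = 1 ∨ Multiset.card M = 2 ∨ Multiset.card M = 3 := by omega
    · obtain ⟨⟨a, k⟩, rfl⟩ := Multiset.card_eq_one.mp h
      obtain rfl : k = 3 := by simpa using hM.2
      exact Or.inl (Or.inl (mem_image.mpr ⟨a, (hM.1 _ (Multiset.mem_singleton_self _)).1, rfl⟩))
    · obtain ⟨⟨a, k⟩, ⟨c, l⟩, rfl⟩ := Multiset.card_eq_two.mp h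
      have e : k + l = 3 := by simpa using hM.2
      have ha := hM.1 (a, k) (by simp)
      have hc := hM.1 (c, l) (by simp)
      refine Or.inl (Or.inr (mem_image.mpr ?_))
      obtain ⟨rfl, rfl⟩ | ⟨rfl, rfl⟩ : k = 2 ∧ l = 1 ∨ k = 1 ∧ l = 2 := by
        have := ha.2; have := hc.2; simp only at *; omega
      · exact ⟨(a, c), mem_product.mpr ⟨ha.1, hc.1⟩, rfl⟩
      · exact ⟨(c, a), mem_product.mpr ⟨hc.1, ha.1⟩, Multiset.pair_comm _ _⟩
    · obtain ⟨⟨a, k⟩, ⟨c, l⟩, ⟨d, m⟩, rfl⟩ := Multiset.card_eq_three.mp h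
      have e : k + (l + m) = 3 := by simpa using hM.2
      have ha := hM.1 (a, k) (by simp)
      have hc := hM.1 (c, l) (by simp)
      have hd := hM.1 (d, m) (by simp)
      simp only [mem_Ico] at ha hc hd
      obtain ⟨rfl, rfl, rfl⟩ : k = 1 ∧ l = 1 ∧ m = 1 := by omega
      refine Or.inr (mem_image.mpr ⟨⟨{⟨a - 1, by omega⟩, ⟨c - 1, by omega⟩, ⟨d - 1, by omega⟩},
        by simp⟩, mem_univ _, ?_⟩)
      simp [Nat.sub_add_cancel ha.1.1, Nat.sub_add_cancel hc.1.1, Nat.sub_add_cancel hd.1.1]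
  have h1 := Set.ncard_le_ncard h (finite_toSet _)
  rw [Set.ncard_coe_finset] at h1
  have hA : #A ≤ r := card_image_le.trans (by simp)
  have hB : #B ≤ r * r := card_image_le.trans (by simp)
  have hC : #C ≤ (r + 2).choose 3 := card_image_le.trans (by
    rw [card_univ, Sym.card_sym_eq_choose, Fintype.card_fin]; rfl)
  have h2 := (card_union_le (A ∪ B) C).trans (Nat.add_le_add_right (card_union_le A B) _)
  have h3 := Nat.descFactorial_eq_factorial_mul_choose (r + 2) 3
  simp only [Nat.descFactorial_succ, Nat.descFactorial_zero, Nat.factorial_succ,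
    Nat.factorial_zero, show r + 2 - 2 = r by omega, show r + 2 - 1 = r + 1 by omega,
    Nat.sub_zero] at h3
  nlinarith [Nat.zero_le (r ^ 3)]

variable {N p : ℕ} {ρ : Fin N → ℕ}

theorem ncard_TT_le (hρ : ∀ i, ρ i < p) (w : ℕ) : (TT ρ w).ncard ≤ (MT p w).ncard := by
  let F : (Fin N → ℕ) → Multiset (ℕ × ℕ) := fun b =>
    (univ.val.map fun i => (ρ i, b i - cc ρ i)).filter fun x => x.2 ≠ 0
  refine Set.ncard_le_ncard_of_injOn F (fun b hb => ⟨fun x hx => ?_, ?_⟩)
    (fun b hb b' hb' e => ?_) (MT_finite p w)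
  · obtain ⟨h1, h2⟩ := Multiset.mem_filter.mp hx
    obtain ⟨i, -, rfl⟩ := Multiset.mem_map.mp h1
    refine ⟨mem_Ico.mpr ⟨Nat.pos_of_ne_zero fun h => h2 ?_, hρ i⟩, Nat.pos_of_ne_zero h2⟩
    simp [hb.2.2 i h]
  · have h1 : ∑ i, (b i - cc ρ i) + ∑ i, cc ρ i = ∑ i, b i := by
      rw [← sum_add_distrib]
      exact sum_congr rfl fun i _ => Nat.sub_add_cancel (hb.1.cc_le i)
    have h2 : ((F b).map Prod.snd).sum = ∑ i, (b i - cc ρ i) := by
      simp only [F, Multiset.filter_map, Multiset.map_map, Function.comp_def]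
      exact sum_filter_ne_zero univ
    have := hb.2.1
    omega
  · have cnt : ∀ (b : Fin N → ℕ) (r k : ℕ), 0 < k →
        Multiset.card ((F b).filter fun x => x.1 = r ∧ k ≤ x.2) =
          #{j | ρ j = r ∧ k ≤ b j - cc ρ j} := by
      intro b r k hk
      simp only [F, Multiset.filter_filter, Multiset.filter_map, Multiset.card_map,
        Function.comp_def]
      refine congrArg Multiset.card (Multiset.filter_congr fun j _ => ?_)
      omega
    have key : ∀ b ∈ TT ρ w, ∀ i k, k ≤ b i - cc ρ i ↔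
        #{j | ρ j = ρ i ∧ i ≤ j} ≤ #{j | ρ j = ρ i ∧ k ≤ b j - cc ρ j} := by
      intro b hb i k
      constructor
      · intro h
        refine card_le_card fun j hj => ?_
        simp only [mem_filter, mem_univ, true_and] at hj ⊢
        have := hb.1.add_le hj.2 hj.1.symm
        exact ⟨hj.1, by omega⟩
      · intro h
        by_contra hc
        refine absurd h (not_le.mpr (card_lt_card ⟨fun j hj => ?_, fun h => ?_⟩))
        · simp only [mem_filter, mem_univ, true_and] at hj ⊢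
          refine ⟨hj.1, le_of_not_gt fun hji => ?_⟩
          have := hb.1.add_le hji.le hj.1
          omega
        · exact hc (by simpa using h (show i ∈ _ by simp))
    funext i
    have : ∀ k, k ≤ b i - cc ρ i ↔ k ≤ b' i - cc ρ i := by
      intro k
      rcases Nat.eq_zero_or_pos k with rfl | hk
      · simp
      · rw [key b hb, key b' hb', ← cnt b _ _ hk, ← cnt b' _ _ hk, e]
    have h1 := eq_of_forall_le_iff this
    have := hb.1.cc_le i
    have := hb'.1.cc_le i
    omega

theorem ncard_TT_lt (hρ : ∀ i, ρ i < p) {w : ℕ} (hw : 0 < w) (hp : 0 < p) :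
    (TT ρ w).ncard < p ^ w := by
  obtain ⟨k, rfl⟩ : ∃ k, w = 1 + k := ⟨w - 1, by omega⟩
  refine (ncard_TT_le hρ _).trans_lt ((ncard_MT_add p 1 k).trans_lt ?_)
  rw [pow_add, pow_one, mul_comm p]
  exact Nat.mul_lt_mul_of_pos_left ((ncard_MT_one p).trans_lt (by omega)) (by positivity)

theorem two_mul_ncard_TT_lt (hρ : ∀ i, ρ i < p) {w : ℕ} (hw : 3 ≤ w) (hp : 0 < p) :
    2 * (TT ρ w).ncard < p ^ w := by
  obtain ⟨k, rfl⟩ : ∃ k, w = 3 + k := ⟨w - 3, by omega⟩
  refine (Nat.mul_le_mul_left 2 ((ncard_TT_le hρ _).trans (ncard_MT_add p 3 k))).trans_lt ?_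
  rw [pow_add, mul_left_comm, mul_comm (p ^ 3)]
  exact Nat.mul_lt_mul_of_pos_left (ncard_MT_three hp) (by positivity)

end H33.Sn
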