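import Mathlib
import Cfsg.Agent.Lib.Block.Cover3
import Cfsg.Agent.Lib.Blk86.Cov
import Cfsg.Agent.Lib.Blk86.GoodF

/-!
Local block theory of symmetric groups at an element of order `p`.
-/

set_option autoImplicit false
set_option linter.unusedSectionVars false
set_option linter.style.haveILetI false
attribute [local irreducible] H33.instFieldF

namespace H33.Sn

open Equiv Cfsg
open H86 (Cen Nor emb Supp Inv Zc IsBlk)
open Subgroup (zpowers)

variable {Ω : Type*} [Fintype Ω] [DecidableEq Ω] {p : ℕ} {u : Perm Ω}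

/-- The permutations commuting with `u` and preserving its cycles. -/
def QQ (u : Perm Ω) : Subgroup (Perm Ω) where
  carrier := {q | Commute u q ∧ ∀ x, u.SameCycle x (q x)}
  mul_mem' ha hb := ⟨ha.1.mul_right hb.1, fun x => (hb.2 x).trans (ha.2 _)⟩
  one_mem' := ⟨Commute.one_right _, fun x => Perm.SameCycle.refl _ _⟩
  inv_mem' := fun {a} ha => ⟨ha.1.inv_right, fun x => by simpa using (ha.2 (a⁻¹ x)).symm⟩

/-- The permutations fixing the support of `u` pointwise. -/
def KK (u : Perm Ω) : Subgroup (Perm Ω) where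
  carrier := {g | ∀ x, u x ≠ x → g x = x}
  mul_mem' ha hb x hx := by rw [Perm.mul_apply, hb x hx, ha x hx]
  one_mem' _ _ := rfl
  inv_mem' := fun {a} ha x hx => by rw [Perm.inv_eq_iff_eq, ha x hx]

lemma pow_apply_of_commute {g : Perm Ω} (h : Commute u g) {x : Ω} {k : ℕ} (hx : (u ^ k) x = g x)
    (n : ℕ) : (g ^ n) x = (u ^ (k * n)) x := by
  induction n with
  | zero => rfl
  | succ n ih =>
    rw [pow_succ', Perm.mul_apply, ih, ← Perm.mul_apply, ← (h.pow_left _).eq, Perm.mul_apply, ← hx,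
      ← Perm.mul_apply, ← pow_add, mul_add, mul_one]

lemma QQ_pow (hu : u ^ p = 1) {q : Perm Ω} (hq : q ∈ QQ u) : q ^ p = 1 := by
  ext x
  obtain ⟨k, hk⟩ := (hq.2 x).exists_nat_pow_eq
  rw [pow_apply_of_commute hq.1 hk, mul_comm, pow_mul, hu, one_pow]

lemma isPGroup_QQ (hu : u ^ p = 1) : IsPGroup p (QQ u) := fun q =>
  ⟨1, Subtype.ext (by simpa using QQ_pow hu q.2)⟩

lemma mem_Cen_zpowers {G : Type*} [Group G] {u g : G} : g ∈ Cen (zpowers u) ↔ Commute u g :=
  H34.mem_centralizer_zpowers_iff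

lemma Cen_le_Nor_QQ : Cen (zpowers u) ≤ Nor (QQ u) := by
  have key : ∀ g q, Commute u g → q ∈ QQ u → g * q * g⁻¹ ∈ QQ u := by
    intro g q hg hq
    refine ⟨(hg.mul_right hq.1).mul_right hg.inv_right, fun x => ?_⟩
    have := (hq.2 (g⁻¹ x)).conj (g := g)
    rw [← hg.eq, mul_inv_cancel_right] at this
    simpa using this
  intro g hg
  rw [mem_Cen_zpowers] at hg
  refine H86.mem_Nor.mpr fun q => ⟨key g q hg, fun h => ?_⟩
  simpa [mul_assoc] using key _ _ hg.inv_right h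

lemma mem_KK_of_Cen (hp : p.Prime) (hu : u ^ p = 1) {g : Perm Ω} (hg : g ∈ Cen (QQ u))
    (ho : ¬ p ∣ orderOf g) : g ∈ KK u := by
  intro x hx
  have h1 : Commute u g := H86.mem_Cen.mp hg u ⟨Commute.refl _, fun x => ⟨1, by simp⟩⟩
  have h2 : u.cycleOf x * g = g * u.cycleOf x := by
    refine H86.mem_Cen.mp hg _ ⟨(Perm.self_mem_cycle_factors_commute
      (Perm.cycleOf_mem_cycleFactorsFinset_iff.mpr (Perm.mem_support.mpr hx))).symm, fun y => ?_⟩
    rw [Perm.cycleOf_apply]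
    split_ifs
    · exact ⟨1, by simp⟩
    · exact Perm.SameCycle.refl _ _
  have h3 : u.SameCycle x (g x) := by
    by_contra hc
    have := congrArg (fun f : Perm Ω => f x) h2
    simp only [Perm.mul_apply, Perm.cycleOf_apply_self, Perm.cycleOf_apply_of_not_sameCycle hc,
      EmbeddingLike.apply_eq_iff_eq] at this
    exact hx this.symm
  obtain ⟨k, hk⟩ := h3.exists_nat_pow_eq
  have h4 : (g ^ p) x = x := by
    rw [pow_apply_of_commute h1 hk, mul_comm, pow_mul, hu, one_pow, Perm.one_apply]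
  have h5 : Function.IsPeriodicPt g p x := by
    rwa [Function.IsPeriodicPt, Function.IsFixedPt, ← Perm.coe_pow]
  have h6 : Function.IsPeriodicPt g (orderOf g) x := by
    rw [Function.IsPeriodicPt, Function.IsFixedPt, ← Perm.coe_pow, pow_orderOf_eq_one]; rfl
  have := h5.gcd h6
  rwa [(hp.coprime_iff_not_dvd.mpr ho).gcd_eq_one] at this

lemma commute_of_KK {g q : Perm Ω} (hg : g ∈ KK u) (hq : ∀ x, u x = x → q x = x) :
    Commute q g := by
  refine Perm.Disjoint.commute fun x => ?_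
  by_cases hx : u x = x
  · exact Or.inl (hq x hx)
  · exact Or.inr (hg x hx)

lemma KK_le_Cen : KK u ≤ Cen (zpowers u) := fun _ hg =>
  mem_Cen_zpowers.mpr (commute_of_KK hg fun _ h => h)

variable [hp : Fact p.Prime] {M : Ideal AlgInt} [M.IsMaximal] {B : Set (IrrCharacter (Perm Ω))}

lemma isPElt_of_pow {G : Type*} [Group G] {u : G} (hu : u ^ p = 1) : H35.IsPElt p u :=
  H35.isPElt_of_pow_eq_one (k := 1) (by simpa using hu)

theorem br_mem_Zc (hM : IsPModular p M) (hu : u ^ p = 1) (hB : IsPBlock M B) :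
    H86.br (zpowers u) (eB M B) ∈ Zc (F M) (KK u) := by
  haveI := charP hM
  have hU := H35.isPElt_iff_zpowers.mp (isPElt_of_pow hu)
  have he := (H86.isBlk_eB hB).inv
  have h1 : H86.br (zpowers u) (eB M B) ∈ Zc (F M) (Cen (zpowers u)) :=
    ⟨H86.supp_res _ _, (he.anti le_top).res Subgroup.le_normalizer⟩
  have h2 := H86.supp_Cen_of_idem (isPGroup_QQ hu) (fun q hq => mem_Cen_zpowers.mpr hq.1)
    Cen_le_Nor_QQ h1 (H86.br_idem hU (he.anti le_top) (eB_idem hB))
  refine ⟨fun g hg => ?_, h1.2.anti KK_le_Cen⟩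
  by_contra hc
  have h3 := h2.mem hc
  rw [H86.coeff_res_of_mem _ h3.1, coeff_eB] at hc
  exact hg (mem_KK_of_Cen hp.out hu h3.2 (not_dvd_orderOf_of_coeff_ne_zero hM (fB_mem_OG hB) hc))

/-- If a character of `B` does not vanish at `u`, every `p`-subgroup of the symmetric group on
the support of `u` lies in a defect group. -/
theorem br_ne_zero (hM : IsPModular p M) (hu : u ^ p = 1) (hB : IsPBlock M B)
    {χ : IrrCharacter (Perm Ω)} (hχ : χ ∈ B) (h : (χ : Perm Ω → ℂ) u ≠ 0) {P : Subgroup (Perm Ω)}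
    (hP : ∀ q ∈ P, ∀ x, u x = x → q x = x) : H34.br P (eB M B) ≠ 0 := by
  obtain ⟨c, h1, h2⟩ : ∃ c, Commute u c ∧ red M (blockCoeff B c) ≠ 0 := by
    by_contra hc
    refine h (H34.irr_eq_zero_of_blockCoeff hM hB hχ fun c h => ?_)
    rw [H35.pPart_eq_self (isPElt_of_pow hu)] at h
    by_contra h'
    exact hc ⟨c, h, h'⟩
  refine br_eB_ne_zero_iff.mpr ⟨c, H86.mem_Cen.mpr fun q hq => commute_of_KK ?_ (hP q hq), h2⟩
  refine (br_mem_Zc hM hu hB).1.mem ?_
  rwa [H86.coeff_res_of_mem _ (mem_Cen_zpowers.mpr h1), coeff_eB]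

theorem br_mul_eq (hM : IsPModular p M) (hu : u ^ p = 1) (hB : IsPBlock M B)
    {H : Type*} [Group H] [Finite H] {φ : H →* Perm Ω} (hφ : Function.Injective φ)
    (hr : φ.range = KK u) {c : Set (IrrCharacter H)} (hc : IsPBlock M c) {κ : IrrCharacter H}
    (hκ : κ ∈ c) {χ : IrrCharacter (Perm Ω)} (hχ : χ ∈ B) {m : ℂ} (hm : m ≠ 0)
    (h : ∀ x, (χ : Perm Ω → ℂ) (φ x * u) = m * (κ : H → ℂ) x) :
    H86.br (zpowers u) (eB M B) * emb φ (eB M c) = emb φ (eB M c) := by
  haveI := charP hM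
  have hU := H35.isPElt_iff_zpowers.mp (isPElt_of_pow hu)
  have hε : IsBlk (KK u) (emb φ (eB M c)) := by
    rw [← hr, MonoidHom.range_eq_map]
    exact (H86.isBlk_emb hφ).mpr (H86.isBlk_eB hc)
  refine hε.mul_eq_of_ne_zero (br_mem_Zc hM hu hB)
    (H86.br_idem hU ((H86.isBlk_eB hB).inv.anti le_top) (eB_idem hB)) fun h0 => ?_
  have s1 : Supp (Cen (zpowers u)) (emb φ (fB c)) :=
    (H86.supp_emb_range φ _).mono (hr ▸ KK_le_Cen)
  have o1 := (H86.emb_mem_OG (M := M) hφ).mpr (fB_mem_OG hc)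
  have i1 : Inv (zpowers u) (fB B * emb φ (fB c)) :=
    ((H86.isCent_iff_inv.mp (isCent_fB B)).anti le_top).mul s1.inv_of_Cen
  have h1 := H34.chiL_mul_single_eq_zero_of_br hM (f := fB B * emb φ (fB c))
    (Subring.mul_mem _ (fB_mem_OG hB) o1) (by
      rw [mul_assoc, ← mul_assoc (emb φ (fB c)), (isCent_fB B).comm (emb φ (fB c)), mul_assoc,
        ← map_mul, fB_idem, ← mul_assoc, fB_idem]) (h := u) (i1 u (Subgroup.mem_zpowers u)) (by
      rw [H35.pPart_eq_self (isPElt_of_pow hu), redA_mul (fB_mem_OG hB) o1, H86.redA_emb hφ,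
        H35.br_eq_br]
      exact (H86.res_mul_of_supp_right _ (hε.supp.mono KK_le_Cen)).trans h0) (H6.irr_isClassFunction χ.2)
  have h2 : ∀ x : MonoidAlgebra ℂ H, chiL (χ : Perm Ω → ℂ) (emb φ x * MonoidAlgebra.single u 1) =
      m * chiL (κ : H → ℂ) x := by
    intro x
    induction x using MonoidAlgebra.induction_linear with
    | zero => simp
    | add a b ha hb => rw [map_add, add_mul, map_add, map_add, ha, hb, mul_add]
    | single a r =>
      rw [H86.emb_single, MonoidAlgebra.single_mul_single, chiL_single, chiL_single, h]; ring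
  rw [mul_assoc, chiL_fB_mul_of_mem hχ, h2, ← mul_one (fB c), chiL_fB_mul_of_mem hκ,
    chiL_one] at h1
  exact mul_ne_zero hm (irr_one_ne_zero κ) h1

/-- Characters that restrict on the coset `K u` to multiples of one character are in one block. -/
theorem mem_of_res (hM : IsPModular p M) (hu : u ^ p = 1) (hB : IsPBlock M B)
    {H : Type*} [Group H] [Finite H] {φ : H →* Perm Ω} (hφ : Function.Injective φ)
    (hr : φ.range = KK u) {κ : IrrCharacter H} {χ χ' : IrrCharacter (Perm Ω)} (hχ : χ ∈ B)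
    {m m' : ℂ} (hm : m ≠ 0) (hm' : m' ≠ 0)
    (h : ∀ x, (χ : Perm Ω → ℂ) (φ x * u) = m * (κ : H → ℂ) x)
    (h' : ∀ x, (χ' : Perm Ω → ℂ) (φ x * u) = m' * (κ : H → ℂ) x) : χ' ∈ B := by
  haveI := charP hM
  have hU := H35.isPElt_iff_zpowers.mp (isPElt_of_pow hu)
  have hc := isPBlock_blockOf (M := M) κ
  have hB' := isPBlock_blockOf (M := M) χ'
  have h1 := br_mul_eq hM hu hB hφ hr hc (mem_blockOf_self κ) hχ hm h
  have h2 := br_mul_eq hM hu hB' hφ hr hc (mem_blockOf_self κ) (mem_blockOf_self χ') hm' h'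
  by_contra hn
  have h3 : B ≠ blockOf M (χ' : Perm Ω → ℂ) := fun e => hn (e ▸ mem_blockOf_self χ')
  rw [← h2, ← mul_assoc, ← H86.br_mul hU ((H86.isBlk_eB hB).inv.anti le_top)
    ((H86.isBlk_eB hB').inv.anti le_top), eB_mul_eB_of_ne hB hB' h3, map_zero, zero_mul, h2] at h1
  exact eB_ne_zero hc ((H86.emb_eq_zero_iff hφ).mp h1.symm)

end H33.Sn
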