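import Mathlib
import Cfsg.Prelude.Def_CaseTheorems
import Cfsg.Agent.Lib.Block.Height
import Cfsg.Agent.Lib.SnRep.Count
import Cfsg.Agent.Lib.SnRep.Loc

/-!
The blocks of the symmetric groups (Nakayama's conjecture) and their numbers of Brauer characters.
-/

set_option autoImplicit false
set_option linter.unusedSectionVars false
set_option linter.style.haveILetI false
attribute [local irreducible] H33.instFieldF

namespace H33.Sn

open Finset Equiv Cfsg

section emb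
variable {A Z Ω : Type*} (e : A ⊕ Z ≃ Ω)

/-- The embedding of a Young subgroup. -/
def em : Perm A × Perm Z →* Perm Ω := e.permCongrHom.toMonoidHom.comp (Perm.sumCongrHom A Z)

/-- The left factor. -/
def el : Perm A →* Perm Ω := (em e).comp (MonoidHom.inl _ _)

/-- The right factor. -/
def er : Perm Z →* Perm Ω := (em e).comp (MonoidHom.inr _ _)

lemma em_apply (y : Perm A) (h : Perm Z) : em e (y, h) = e.permCongr (Perm.sumCongr y h) := rfl

lemma em_injective : Function.Injective (em e) :=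
  e.permCongrHom.injective.comp Perm.sumCongrHom_injective

lemma el_injective : Function.Injective (el e) := fun _ _ h =>
  congrArg Prod.fst (em_injective e h)

lemma er_injective : Function.Injective (er e) := fun _ _ h =>
  congrArg Prod.snd (em_injective e h)

lemma er_mul_el (y : Perm A) (h : Perm Z) : er e h * el e y = em e (y, h) := by
  simp [er, el, ← map_mul]

@[simp] lemma el_inl (y : Perm A) (a : A) : el e y (e (.inl a)) = e (.inl (y a)) := by
  simp [el, em_apply]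

@[simp] lemma el_inr (y : Perm A) (z : Z) : el e y (e (.inr z)) = e (.inr z) := by
  simp [el, em_apply]

@[simp] lemma er_inl (y : Perm Z) (a : A) : er e y (e (.inl a)) = e (.inl a) := by
  simp [er, em_apply]

@[simp] lemma er_inr (y : Perm Z) (z : Z) : er e y (e (.inr z)) = e (.inr (y z)) := by
  simp [er, em_apply]

lemma mem_range_er {g : Perm Ω} (h : ∀ a, g (e (.inl a)) = e (.inl a)) : g ∈ (er e).range := by
  have key : ∀ g : Perm Ω, (∀ a, g (e (.inl a)) = e (.inl a)) → ∀ z, ∃ z', g (e (.inr z)) =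
      e (.inr z') := by
    intro g h z
    obtain ⟨a | z', h'⟩ := e.surjective (g (e (.inr z)))
    · rw [← h] at h'; simp at h'
    · exact ⟨z', h'.symm⟩
  choose f hf using key g h
  choose f' hf' using key g⁻¹ fun a => by rw [Perm.inv_eq_iff_eq, h]
  refine ⟨⟨f, f', fun z => ?_, fun z => ?_⟩, Equiv.ext fun x => ?_⟩
  · have := hf' (f z)
    rw [← hf] at this
    simpa using this.symm
  · have := hf (f' z)
    rw [← hf'] at this
    simpa using this.symm
  · obtain ⟨a | z, rfl⟩ := e.surjective x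
    · rw [er_inl, h]
    · rw [er_inr, hf]; rfl

variable [Fintype A] [DecidableEq A] [Fintype Z] [DecidableEq Z] [Fintype Ω] [DecidableEq Ω]

lemma range_er {y : Perm A} (hy : ∀ a, y a ≠ a) : (er e).range = KK (el e y) := by
  ext g
  constructor
  · rintro ⟨h, rfl⟩ x hx
    obtain ⟨a | z, rfl⟩ := e.surjective x
    · simp
    · simp at hx
  · exact fun h => mem_range_er e fun a => h _ (by simpa using hy a)

lemma el_fix {y : Perm A} (hy : ∀ a, y a ≠ a) (q : Perm A) (x : Ω) (hx : el e y x = x) :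
    el e q x = x := by
  obtain ⟨a | z, rfl⟩ := e.surjective x
  · exact absurd (by simpa using hx) (hy a)
  · simp

lemma sign_em (y : Perm A) (h : Perm Z) : Perm.sign (em e (y, h)) = Perm.sign y * Perm.sign h := by
  simp [em_apply]

lemma sign_el (y : Perm A) : Perm.sign (el e y) = Perm.sign y :=
  (sign_em e y 1).trans (by simp)

end emb

variable {p w N : ℕ} [hp : Fact p.Prime] {Ω Z : Type*} [Fintype Ω] [DecidableEq Ω] [Fintype Z]
  [DecidableEq Z] {ρ : Fin N → ℕ} {M : Ideal AlgInt} [M.IsMaximal]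

lemma tr_pow (W : Type*) (a : Multiplicative (W → ZMod p)) : a ^ p = 1 := by
  ext i
  simp

lemma uu_pow : uu w p ^ p = 1 := by rw [uu, ← map_pow, tr_pow, map_one]

lemma uu_ne (a : Fin w × ZMod p) : uu w p a ≠ a := by
  simp [uu, Prod.ext_iff]

/-- `χ` is the character with the bead configuration `β`, up to sign. -/
def IsCh (χ : Perm Ω → ℂ) (β : Fin N → ℕ) : Prop := χ = ch β ∨ χ = -ch β

lemma IsCh.exists {χ : Perm Ω → ℂ} {β : Fin N → ℕ} (h : IsCh χ β) :
    ∃ s : ℂ, s * s = 1 ∧ χ = s • ch β := by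
  rcases h with h | h
  exacts [⟨1, by simp, by simpa using h⟩, ⟨-1, by simp, by simpa using h⟩]

lemma IsCh.comp {χ : Perm Ω → ℂ} {β : Fin N → ℕ} (h : IsCh χ β) (τ : Perm (Fin N)) :
    IsCh χ (β ∘ τ) := by
  rcases h with rfl | rfl <;> rcases sg_cases τ with h | h <;> simp [IsCh, ch_comp, h]

lemma exists_isCh {β : Fin N → ℕ} (hβ : ∑ i, β i = dg N (Fintype.card Ω))
    (h : Function.Injective β) : ∃ χ : IrrCharacter (Perm Ω), IsCh χ.1 β := by
  rcases irr_or_neg hβ h with h | h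
  exacts [⟨⟨_, h⟩, Or.inl rfl⟩, ⟨⟨_, h⟩, Or.inr rfl⟩]

variable (Ω) in
/-- The characters with given residues and weight. -/
def JJ (p : ℕ) (ρ : Fin N → ℕ) (w : ℕ) : Set (IrrCharacter (Perm Ω)) :=
  {χ | ∃ b, RS ρ b ∧ ∑ i, b i = w + ∑ i, cc ρ i ∧ IsCh χ.1 (cfg p ρ b)}

/-- The data describing a block. -/
structure Dat (p w : ℕ) (ρ : Fin N → ℕ) (Ω Z : Type*) [Fintype Ω] [Fintype Z] : Prop where
  hρ : ∀ i, ρ i < p
  hN : Fintype.card Ω ≤ N
  hZ : ∑ i, cfg p ρ (cc ρ) i = dg N (Fintype.card Z)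
  hΩ : Fintype.card Ω = p * w + Fintype.card Z
  big : ∀ r < p, w < #{i | ρ i = r}

lemma Dat.sum_eq (h : Dat p w ρ Ω Z) : p * (w + ∑ i, cc ρ i) + ∑ i, ρ i = dg N (Fintype.card Ω) := by
  have := h.hZ
  rw [sum_cfg, dg] at this
  rw [dg, h.hΩ, mul_add]
  omega

lemma Dat.sum_cfg (h : Dat p w ρ Ω Z) {b : Fin N → ℕ} (hb : ∑ i, b i = w + ∑ i, cc ρ i) :
    ∑ i, cfg p ρ b i = dg N (Fintype.card Ω) := by rw [H33.Sn.sum_cfg, hb, h.sum_eq]

lemma Dat.exists_equiv (h : Dat p w ρ Ω Z) : Nonempty (Fin w × ZMod p ⊕ Z ≃ Ω) :=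
  Fintype.card_eq.mp (by simp [h.hΩ, mul_comm])

lemma Dat.exists_core (h : Dat p w ρ Ω Z) :
    ∃ κ : IrrCharacter (Perm Z), IsCh κ.1 (cfg p ρ (cc ρ)) := exists_isCh h.hZ ((rs_cc ρ).inj h.hρ)

lemma Dat.val (h : Dat p w ρ Ω Z) (e : Fin w × ZMod p ⊕ Z ≃ Ω) {κ : IrrCharacter (Perm Z)}
    (hκ : IsCh κ.1 (cfg p ρ (cc ρ))) {χ : IrrCharacter (Perm Ω)} (hχ : χ ∈ JJ Ω p ρ w) :
    ∃ m : ℂ, m ≠ 0 ∧ ∀ x, χ.1 (er e x * el e (uu w p)) = m * κ.1 x := by
  obtain ⟨b, h1, h2, h3⟩ := hχ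
  obtain ⟨m, hm, h4⟩ := ch_uu (Ω' := Z) h.hρ w b h1 h2
  obtain ⟨s, hs, h5⟩ := h3.exists
  obtain ⟨t, ht, h6⟩ := hκ.exists
  refine ⟨s * m * t, mul_ne_zero (mul_ne_zero (left_ne_zero_of_mul_eq_one hs)
    (by exact_mod_cast hm.ne')) (left_ne_zero_of_mul_eq_one ht), fun x => ?_⟩
  rw [er_mul_el, em_apply, h5, h6, Pi.smul_apply, Pi.smul_apply, ch, cf_permCongr, ← ch, h4]
  simp only [smul_eq_mul]
  linear_combination (-(s * m * ch (cfg p ρ (cc ρ)) x)) * ht

lemma Dat.val_ne_zero (h : Dat p w ρ Ω Z) (e : Fin w × ZMod p ⊕ Z ≃ Ω)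
    {χ : IrrCharacter (Perm Ω)} (hχ : χ ∈ JJ Ω p ρ w) : χ.1 (el e (uu w p)) ≠ 0 := by
  obtain ⟨κ, hκ⟩ := h.exists_core
  obtain ⟨m, hm, h1⟩ := h.val e hκ hχ
  have := h1 1
  rw [map_one, one_mul] at this
  rw [this]
  exact mul_ne_zero hm (irr_one_ne_zero κ)

lemma apply_eq_of_strictMono {l : Fin N → ℕ} {n : ℕ} (h : StrictMono l) (hl : ∑ i, l i = dg N n)
    {i : Fin N} (hi : i + n < N) : l i = i := by
  have h0 : RS (fun _ => 0) l := fun i j hij _ => h hij
  have hc : ∀ j : Fin N, cc (fun _ => 0) j = j := fun j => by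
    simp [cc, filter_gt_eq_Iio]
  have h1 := h0.cc_le i
  rw [hc] at h1
  by_contra hne
  have h2 : ∑ j : Fin N, ((j : ℕ) + if i ≤ j then 1 else 0) ≤ ∑ j, l j := by
    refine sum_le_sum fun j _ => ?_
    split_ifs with hj
    · have := h0.add_le hj rfl
      rw [hc, hc] at this
      omega
    · simpa [hc] using h0.cc_le j
  rw [sum_add_distrib, hl, dg, ← card_filter, filter_le_eq_Ici, Fin.card_Ici] at h2
  omega

/-- Nakayama's conjecture. -/
theorem exists_dat (hM : IsPModular p M) {B : Set (IrrCharacter (Perm Ω))} (hB : IsPBlock M B) :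
    ∃ (N w z : ℕ) (ρ : Fin N → ℕ), Dat p w ρ Ω (Fin z) ∧ B = JJ Ω p ρ w := by
  set n := Fintype.card Ω
  obtain ⟨χ₀, h0, ht⟩ := exists_height_zero p hB
  have hN : n ≤ n + p * (n + 1) := Nat.le_add_right _ _
  obtain ⟨l, l1, l2, l3⟩ := exists_ch hN χ₀.2
  let ρ : Fin (n + p * (n + 1)) → ℕ := fun i => l i % p
  have hρ : ∀ i, ρ i < p := fun i => Nat.mod_lt _ hp.out.pos
  obtain ⟨τ, b, b1, b2⟩ := exists_cfg hρ l1.injective (σ := 1) fun _ => rfl
  obtain ⟨w, hw⟩ := Nat.exists_eq_add_of_le' (sum_le_sum fun i (_ : i ∈ univ) => b1.cc_le i)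
  obtain ⟨z, hz⟩ := Nat.exists_eq_add_of_le' (sum_le_of_inj ((rs_cc ρ).inj hρ))
  have hn : n = p * w + z := by
    have h1 : ∑ i, cfg p ρ b i = dg (n + p * (n + 1)) n := by rw [← b2, ← l2]; exact Equiv.sum_comp τ l
    rw [sum_cfg, hw, dg, mul_add] at h1
    rw [sum_cfg] at hz
    omega
  have hd : Dat p w ρ Ω (Fin z) := by
    refine ⟨hρ, hN, by rw [hz, dg, Fintype.card_fin], by rw [Fintype.card_fin]; exact hn,
      fun r hr => ?_⟩
    have hw : w < n + 1 := by have := hp.out.pos; nlinarith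
    refine hw.trans_le ?_
    have lt : ∀ k : Fin (n + 1), p * k + r + n < n + p * (n + 1) := fun k => by
      have := k.2; nlinarith
    refine (card_fin (n + 1)).symm.trans_le ?_
    refine card_le_card_of_injOn (fun k => ⟨p * k + r, by have := lt k; omega⟩)
      (fun k _ => ?_) fun a _ c _ h => ?_
    · simp only [coe_filter, mem_univ, true_and, Set.mem_ofPred_eq, ρ]
      rw [apply_eq_of_strictMono l1 l2 (lt k), Nat.mul_add_mod, Nat.mod_eq_of_lt hr]
    · exact Fin.ext (Nat.eq_of_mul_eq_mul_left hp.out.pos (by simpa using h))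
  have sub : B ⊆ JJ Ω p ρ w := by
    intro χ hχ
    obtain ⟨l', m1, m2, m3⟩ := exists_ch hN χ.2
    have := H84.inner_reg_ne_zero_of_height hM hB hχ h0 ht
    rw [m3, l3] at this
    obtain ⟨σ, hσ⟩ := inner_reg_ch hp.out this
    obtain ⟨τ', b', c1, c2⟩ := exists_cfg hρ m1.injective (σ := σ⁻¹) fun i => by
      rw [← hσ]; simp [ρ]
    refine ⟨b', c1, ?_, c2 ▸ IsCh.comp (Or.inl m3) τ'⟩
    have h1 : ∑ i, cfg p ρ b' i = dg (n + p * (n + 1)) n := by rw [← c2, ← m2]; exact Equiv.sum_comp τ' l'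
    rw [sum_cfg, ← hd.sum_eq] at h1
    exact Nat.eq_of_mul_eq_mul_left hp.out.pos (by omega)
  refine ⟨_, w, z, ρ, hd, sub.antisymm fun χ hχ => ?_⟩
  obtain ⟨e⟩ := hd.exists_equiv
  obtain ⟨κ, hκ⟩ := hd.exists_core
  obtain ⟨m, hm, h1⟩ := hd.val e hκ (sub h0)
  obtain ⟨m', hm', h2⟩ := hd.val e hκ hχ
  exact mem_of_res hM (by rw [← map_pow, uu_pow, map_one]) hB (er_injective e) (range_er e uu_ne)
    h0 hm hm' h1 h2

lemma Dat.reg_mem (h : Dat p w ρ Ω Z) {χ : IrrCharacter (Perm Ω)} (hχ : χ ∈ JJ Ω p ρ w) :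
    pRegularPart p χ.1 ∈ UU Ω p ρ := by
  obtain ⟨b, -, -, h3⟩ := hχ
  obtain ⟨s, -, h5⟩ := h3.exists
  have : pRegularPart p χ.1 = s • pRegularPart p (ch (cfg p ρ b)) := by
    funext g
    simp [pRegularPart, h5]
  rw [this]
  exact Submodule.smul_mem _ _ (reg_mem_UU hp.out h.hρ b)

theorem Dat.blockRank_le (h : Dat p w ρ Ω Z) : blockRank p (JJ Ω p ρ w) ≤ (TT ρ w).ncard := by
  refine le_trans (Submodule.finrank_mono (Submodule.span_le.mpr ?_))
    (finrank_UU hp.out h.hρ h.hN h.sum_eq)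
  rintro _ ⟨χ, hχ, rfl⟩
  exact h.reg_mem hχ

theorem Dat.br_ne_zero (hM : IsPModular p M) (h : Dat p w ρ Ω Z) (hB : IsPBlock M (JJ Ω p ρ w))
    (e : Fin w × ZMod p ⊕ Z ≃ Ω) (P : Subgroup (Perm (Fin w × ZMod p))) :
    H34.br (P.map (el e)) (eB M (JJ Ω p ρ w)) ≠ 0 := by
  obtain ⟨χ, hχ, -⟩ := exists_height_zero p hB
  refine H33.Sn.br_ne_zero hM (u := el e (uu w p)) (by rw [← map_pow, uu_pow, map_one]) hB hχ
    (h.val_ne_zero e hχ) ?_
  rintro _ ⟨q, -, rfl⟩
  exact el_fix e uu_ne q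

theorem card_le_of_sec {G V : Type*} [Group G] [CommGroup V] {D : Subgroup G} {s : ℕ}
    (hs : SectionalPRankLE p s D) (f : V →* G) (hf : Function.Injective f) (hV : ∀ v : V, v ^ p = 1)
    (k : G) (hle : f.range ≤ H86.cs k D) : Nat.card V ≤ p ^ s := by
  let g : V →* D := ((MulAut.conj k⁻¹).toMonoidHom.comp f).codRestrict D fun v => by
    simpa using H86.mem_cs.mp (hle ⟨v, rfl⟩)
  have hg : Function.Injective g := fun a b h => hf (by simpa [g] using h)
  let φ : V →* (⊤ : Subgroup D) ⧸ (⊥ : Subgroup (⊤ : Subgroup D)) :=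
    (QuotientGroup.quotientBot.symm.toMonoidHom.comp Subgroup.topEquiv.symm.toMonoidHom).comp g
  have hφ : Function.Injective φ :=
    (QuotientGroup.quotientBot.symm.injective.comp Subgroup.topEquiv.symm.injective).comp hg
  rw [Nat.card_congr (MonoidHom.ofInjective hφ).toEquiv]
  refine hs ⊤ ⊥ φ.range inferInstance ?_
  rintro _ ⟨v, rfl⟩
  rw [← map_pow, hV, map_one]

theorem p_le_of_sec {G : Type*} [Group G] [Finite G] {D : Subgroup G} {s : ℕ}
    (hs : SectionalPRankLE p s D) (hD : IsPGroup p D) (h1 : D ≠ ⊥) : p ≤ p ^ s := by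
  obtain ⟨k, hk⟩ := hD.exists_card_eq
  have : p ∣ Nat.card D := by
    rcases k with _ | k
    · exact absurd (Subgroup.card_eq_one.mp (by simpa using hk)) h1
    · rw [hk]; exact dvd_pow_self _ (by omega)
  obtain ⟨x, hx⟩ := exists_prime_orderOf_dvd_card' p this
  have h2 : Nat.card (Subgroup.zpowers (x : G)) = p := by
    rw [Nat.card_zpowers, Subgroup.orderOf_coe, hx]
  letI : CommGroup (Subgroup.zpowers (x : G)) := IsCyclic.commGroup
  rw [← h2]
  conv_rhs => rw [h2]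
  refine card_le_of_sec hs (Subgroup.zpowers (x : G)).subtype Subtype.val_injective
    (fun v => by rw [← h2]; exact pow_card_eq_one') 1 ?_
  rw [H86.cs_one, Subgroup.range_subtype, Subgroup.zpowers_le]
  exact x.2

theorem blockRank_sym_lt (hM : IsPModular p M) {B : Set (IrrCharacter (Perm Ω))}
    (hB : IsPBlock M B) {D : Subgroup (Perm Ω)} (hD : IsDefectGroup p M B D) (h1 : D ≠ ⊥) {s : ℕ}
    (hs : SectionalPRankLE p s D) : blockRank p B < p ^ s := by
  obtain ⟨N, w, z, ρ, h, rfl⟩ := exists_dat hM hB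
  refine h.blockRank_le.trans_lt ?_
  rcases Nat.eq_zero_or_pos w with rfl | hw
  · refine ((ncard_TT_le h.hρ 0).trans_lt ?_).trans_le (p_le_of_sec hs (defect_isPGroup hD) h1)
    rw [MT_zero, Set.ncard_singleton]
    exact hp.out.one_lt
  obtain ⟨e⟩ := h.exists_equiv
  obtain ⟨k, hk⟩ := defect_le_cs hM hB hD (Q := ((el e).comp (tr _ _)).range) (by
    rintro ⟨_, a, rfl⟩
    exact ⟨1, Subtype.ext (by simp [← map_pow, tr_pow])⟩) (by
    rw [MonoidHom.range_comp]; exact h.br_ne_zero hM hB e _)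
  have := card_le_of_sec hs _ ((el_injective e).comp (tr_injective _ _)) (tr_pow _) k hk
  refine (ncard_TT_lt h.hρ hw hp.out.pos).trans_le ?_
  simpa using this

end H33.Sn
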