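import Mathlib
import Cfsg.Agent.Lib.SnRep.Sym

/-!
The `p`-parts of the degrees of the characters of the symmetric groups.
-/

set_option autoImplicit false
set_option linter.unusedSectionVars false
set_option linter.style.haveILetI false

namespace H33.Sn

open Finset Equiv Cfsg
open scoped Nat

variable {p w N : ℕ} [hp : Fact p.Prime] {Ω Z : Type*} [Fintype Ω] [DecidableEq Ω] [Fintype Z]
  [DecidableEq Z] {ρ b : Fin N → ℕ}

/-- The valuation of the hook product. -/
noncomputable def hv (p : ℕ) (β : Fin N → ℕ) : ℤ :=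
  ∑ i, (((β i)!).factorization p : ℤ) -
    ∑ i, ∑ j ∈ Ioi i, ((Nat.dist (β j) (β i)).factorization p : ℤ)

lemma norm_sub_eq_dist (a c : ℕ) : ‖(a : ℂ) - c‖ = Nat.dist a c := by
  rcases le_total a c with h | h
  · rw [Nat.dist_eq_sub_of_le h, norm_sub_rev, ← Nat.cast_sub h, Complex.norm_natCast]
  · rw [Nat.dist_eq_sub_of_le_right h, ← Nat.cast_sub h, Complex.norm_natCast]

theorem hv_eq {χ : IrrCharacter (Perm Ω)} {β : Fin N → ℕ} (h : IsCh χ.1 β)
    (hβ : ∑ i, β i = dg N (Fintype.card Ω)) (hi : Function.Injective β) :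
    (((Fintype.card Ω)!).factorization p : ℤ) = (charDegree χ.1).factorization p + hv p β := by
  have h1 := congrArg norm (degree_ch hβ)
  have h2 : ‖ch β (1 : Perm Ω)‖ = charDegree χ.1 := by
    rw [← Complex.norm_natCast, ← irr_one_eq_charDegree]
    rcases h with h | h <;> simp [h]
  simp only [norm_mul, norm_prod, h2, Complex.norm_natCast, norm_sub_eq_dist] at h1
  have h3 : charDegree χ.1 * ∏ i, (β i)! =
      (Fintype.card Ω)! * ∏ i, ∏ j ∈ Ioi i, Nat.dist (β j) (β i) := by exact_mod_cast h1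
  have h4 : ∀ i, ∀ j ∈ Ioi i, Nat.dist (β j) (β i) ≠ 0 := fun i j hj h =>
    (mem_Ioi.mp hj).ne' (hi (Nat.eq_of_dist_eq_zero h))
  have h5 := congrArg (fun n => n.factorization p) h3
  rw [Nat.factorization_mul (charDegree_ne_zero χ)
      (prod_ne_zero_iff.mpr fun i _ => (β i).factorial_ne_zero),
    Nat.factorization_mul (Nat.factorial_ne_zero _)
      (prod_ne_zero_iff.mpr fun i _ => prod_ne_zero_iff.mpr (h4 i)),
    Nat.factorization_prod fun i _ => (β i).factorial_ne_zero,
    Nat.factorization_prod fun i _ => prod_ne_zero_iff.mpr (h4 i),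
    sum_congr rfl fun i _ => Nat.factorization_prod (h4 i)] at h5
  simp only [Finsupp.add_apply, Finsupp.finsetSum_apply] at h5
  have h6 := congrArg (Nat.cast : ℕ → ℤ) h5
  push_cast at h6
  rw [hv]
  linarith

lemma hv_bound {β : Fin N → ℕ} {m : ℕ} (hβ : ∑ i, β i = dg N m) (hi : Function.Injective β) :
    0 ≤ hv p β ∧ hv p β ≤ (m !).factorization p := by
  have hβ' : ∑ i, β i = dg N (Fintype.card (Fin m)) := by simpa using hβ
  obtain ⟨χ, hχ⟩ := exists_isCh hβ' hi
  have h1 := hv_eq (p := p) hχ hβ' hi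
  have h2 := degree_factorization_le_card (p := p) χ
  simp only [Nat.card_eq_fintype_card, Fintype.card_perm, Fintype.card_fin] at h1 h2
  omega

lemma hv_id (c : ℕ) : hv p (fun i : Fin c => (i : ℕ)) = 0 := by
  have := hv_bound (p := p) (β := fun i : Fin c => (i : ℕ)) (m := 0) (by simp [dg])
    Fin.val_injective
  simp only [Nat.factorial_zero, Nat.factorization_one, Finsupp.coe_zero, Pi.zero_apply,
    CharP.cast_eq_zero] at this
  omega

/-- The beads on the runner `r`, in increasing order. -/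
def jr (ρ : Fin N → ℕ) (r : ℕ) : Fin #{i | ρ i = r} ↪o Fin N :=
  ({i | ρ i = r} : Finset (Fin N)).orderEmbOfFin rfl

lemma rho_jr (r : ℕ) (a : Fin #{i | ρ i = r}) : ρ (jr ρ r a) = r :=
  (mem_filter.mp (orderEmbOfFin_mem ({i | ρ i = r} : Finset (Fin N)) rfl a)).2

lemma exists_jr {r : ℕ} {i : Fin N} (h : ρ i = r) : ∃ a, jr ρ r a = i := by
  have : i ∈ Set.range (jr ρ r) := by
    rw [jr, range_orderEmbOfFin]; simpa using h
  exact this

lemma sum_jr {R : Type*} [AddCommMonoid R] (r : ℕ) (g : Fin N → R) :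
    ∑ i with ρ i = r, g i = ∑ a, g (jr ρ r a) :=
  (sum_bij (fun a _ => jr ρ r a) (by simp [rho_jr]) (by simp)
    (fun i hi => by simpa using exists_jr (mem_filter.mp hi).2) fun _ _ => rfl).symm

lemma sum_Ioi_jr {R : Type*} [AddCommMonoid R] (r : ℕ) (a : Fin #{i | ρ i = r}) (g : Fin N → R) :
    ∑ i ∈ Ioi (jr ρ r a) with ρ i = r, g i = ∑ c ∈ Ioi a, g (jr ρ r c) :=
  (sum_bij (fun c _ => jr ρ r c) (by simp [rho_jr]) (by simp) (fun i hi => by
    obtain ⟨c, rfl⟩ := exists_jr (mem_filter.mp hi).2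
    exact ⟨c, by simpa using (mem_filter.mp hi).1, rfl⟩) fun _ _ => rfl).symm

lemma cc_jr (r : ℕ) (a : Fin #{i | ρ i = r}) : cc ρ (jr ρ r a) = a := by
  rw [cc, ← Fin.card_Iio a]
  refine (card_bij (fun c _ => jr ρ r c) (by simp [rho_jr]) (by simp) fun i hi => ?_).symm
  simp only [mem_filter, mem_univ, true_and, rho_jr] at hi
  obtain ⟨c, rfl⟩ := exists_jr hi.2
  exact ⟨c, by simpa using hi.1, rfl⟩

lemma sum_runners {R : Type*} [AddCommMonoid R] (hρ : ∀ i, ρ i < p) (g : Fin N → R) :
    ∑ i, g i = ∑ r ∈ range p, ∑ a, g (jr ρ r a) := by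
  rw [← sum_fiberwise_of_maps_to (s := univ) (t := range p) (g := ρ) (by simpa using hρ)]
  exact sum_congr rfl fun r _ => sum_jr r g

lemma inj_jr (hρ : ∀ i, ρ i < p) (hi : Function.Injective (cfg p ρ b)) (r : ℕ) :
    Function.Injective (b ∘ jr ρ r) := fun a c h =>
  (jr ρ r).injective (hi ((cfg_eq_iff hρ).mpr ⟨(rho_jr r a).trans (rho_jr r c).symm, h⟩))

lemma fact_cfg (hρ : ∀ i, ρ i < p) (i : Fin N) :
    ((cfg p ρ b i)!).factorization p = ((b i)!).factorization p + b i := by
  rw [← Nat.factorization_factorial_mul hp.out, Nat.factorization_def _ hp.out,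
    Nat.factorization_def _ hp.out, cfg, padicValNat_factorial_mul_add _ (hρ i)]

lemma fact_dist_cfg (hρ : ∀ i, ρ i < p) (hi : Function.Injective (cfg p ρ b)) {i j : Fin N}
    (hij : j ≠ i) : (Nat.dist (cfg p ρ b j) (cfg p ρ b i)).factorization p =
      if ρ j = ρ i then (Nat.dist (b j) (b i)).factorization p + 1 else 0 := by
  split_ifs with h
  · have h1 : Nat.dist (b j) (b i) ≠ 0 := fun e =>
      hij (hi ((cfg_eq_iff hρ).mpr ⟨h, Nat.eq_of_dist_eq_zero e⟩))
    rw [cfg, cfg, h, Nat.dist_add_add_right, Nat.dist_mul_left,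
      Nat.factorization_mul hp.out.ne_zero h1]
    simp [hp.out.factorization_self, add_comm]
  · refine Nat.factorization_eq_zero_of_not_dvd fun hd => h ?_
    rw [← cfg_mod (b := b) hρ j, ← cfg_mod (b := b) hρ i]
    rcases le_total (cfg p ρ b j) (cfg p ρ b i) with h | h
    · exact (Nat.modEq_iff_dvd' h).mpr (by rwa [Nat.dist_eq_sub_of_le h] at hd)
    · exact ((Nat.modEq_iff_dvd' h).mpr (by rwa [Nat.dist_eq_sub_of_le_right h] at hd)).symm

lemma sum_Ioi_one (c : ℕ) : ∑ a : Fin c, ∑ _ ∈ Ioi a, (1 : ℤ) = ∑ a : Fin c, ((a : ℕ) : ℤ) := by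
  rw [← Equiv.sum_comp Fin.revPerm]
  refine sum_congr rfl fun a _ => ?_
  have := a.2
  simp only [Fin.revPerm_apply, sum_const, Fin.card_Ioi, Fin.val_rev, nsmul_eq_mul, mul_one]
  congr 1
  omega

theorem hv_cfg (hρ : ∀ i, ρ i < p) (hi : Function.Injective (cfg p ρ b))
    (hb : ∑ i, b i = w + ∑ i, cc ρ i) :
    hv p (cfg p ρ b) = w + ∑ r ∈ range p, hv p (b ∘ jr ρ r) := by
  have h1 : ∑ i, ∑ j ∈ Ioi i, ((Nat.dist (cfg p ρ b j) (cfg p ρ b i)).factorization p : ℤ) =
      ∑ r ∈ range p, (∑ a, ∑ c ∈ Ioi a,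
        ((Nat.dist (b (jr ρ r c)) (b (jr ρ r a))).factorization p : ℤ) +
        ∑ a, (cc ρ (jr ρ r a) : ℤ)) := by
    rw [sum_runners hρ]
    refine sum_congr rfl fun r _ => ?_
    simp only [cc_jr, ← sum_Ioi_one, ← sum_add_distrib]
    refine sum_congr rfl fun a _ => ?_
    rw [← sum_Ioi_jr r a fun j => ((Nat.dist (b j) (b (jr ρ r a))).factorization p : ℤ) + 1,
      sum_filter]
    refine sum_congr rfl fun j hj => ?_
    rw [fact_dist_cfg hρ hi (mem_Ioi.mp hj).ne', rho_jr r a]
    split_ifs <;> simp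
  have h2 := congrArg (Nat.cast : ℕ → ℤ) hb
  push_cast at h2
  simp only [hv, h1, fact_cfg hρ, sum_add_distrib, sum_sub_distrib, Nat.cast_add, h2,
    Function.comp_apply, ← sum_runners hρ fun i => (cc ρ i : ℤ),
    ← sum_runners hρ fun i => (((b i)!).factorization p : ℤ)]
  ring

theorem hv_cfg_le (hρ : ∀ i, ρ i < p) (hi : Function.Injective (cfg p ρ b))
    (hb : ∑ i, b i = w + ∑ i, cc ρ i) : w ≤ hv p (cfg p ρ b) ∧
      hv p (cfg p ρ b) ≤ w + (w !).factorization p := by
  rw [hv_cfg hρ hi hb]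
  have h1 := fun r => Nat.exists_eq_add_of_le' (sum_le_of_inj (inj_jr hρ hi r))
  choose m hm using h1
  have h2 := fun r => hv_bound (p := p) (m := m r) (hm r) (inj_jr hρ hi r)
  have h3 : ∑ r ∈ range p, m r = w := by
    rw [sum_runners hρ, sum_runners hρ] at hb
    simp only [cc_jr] at hb
    simp only [Function.comp_apply] at hm
    simp only [hm, sum_add_distrib] at hb
    omega
  refine ⟨by simpa using sum_nonneg fun r _ => (h2 r).1, add_le_add le_rfl ?_⟩
  refine (sum_le_sum fun r _ => (h2 r).2).trans ?_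
  have h4 := (Nat.factorization_le_iff_dvd (prod_ne_zero_iff.mpr fun r _ => (m r).factorial_ne_zero)
    (Nat.factorial_ne_zero _)).mpr (Nat.prod_factorial_dvd_factorial_sum (range p) m) p
  rw [Nat.factorization_prod fun r _ => (m r).factorial_ne_zero, Finsupp.finsetSum_apply, h3] at h4
  exact_mod_cast h4

lemma sum_pairs_split {c : ℕ} (t : Fin c) (g : Fin c → Fin c → ℤ) (hg : ∀ i j, g i j = g j i) :
    ∑ i, ∑ j ∈ Ioi i, g j i =
      ∑ i ∈ univ.erase t, ∑ j ∈ (Ioi i).erase t, g j i + ∑ s ∈ univ.erase t, g t s := by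
  rw [← add_sum_erase _ _ (mem_univ t)]
  have h1 : ∀ i ∈ univ.erase t, ∑ j ∈ Ioi i, g j i =
      ∑ j ∈ (Ioi i).erase t, g j i + if i < t then g t i else 0 := by
    intro i _
    split_ifs with h
    · rw [sum_erase_add _ _ (mem_Ioi.mpr h)]
    · rw [erase_eq_of_notMem (by simpa using h), add_zero]
  have h2 : ∑ s ∈ univ.erase t, g t s = ∑ j ∈ Ioi t, g j t +
      ∑ i ∈ univ.erase t, if i < t then g t i else 0 := by
    rw [← sum_filter, ← sum_filter_add_sum_filter_not _ (· < t), add_comm]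
    congr 1
    refine sum_congr ?_ fun i _ => hg _ _
    ext i
    simp only [mem_filter, mem_erase, mem_univ, and_true, mem_Ioi]
    omega
  rw [sum_congr rfl h1, sum_add_distrib, h2]
  ring

lemma fact_desc {x c : ℕ} (h : c ≤ x) : (x !).factorization p =
    ((x - c)!).factorization p + ∑ s ∈ range c, (x - s).factorization p := by
  induction c with
  | zero => simp
  | succ c ih =>
    rw [ih (by omega), sum_range_succ, show x - c = x - (c + 1) + 1 by omega, Nat.factorial_succ,
      Nat.factorization_mul (by omega) (Nat.factorial_ne_zero _), Finsupp.add_apply]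
    ring

lemma sum_dist (t a : ℕ) : ∑ s ∈ range (t + 1 + a), (Nat.dist t s).factorization p =
    (t !).factorization p + (a !).factorization p := by
  induction a with
  | zero =>
    rw [fact_desc (x := t) le_rfl, add_zero, sum_range_succ]
    simp only [Nat.dist_self, Nat.factorization_zero, Finsupp.coe_zero, Pi.zero_apply, add_zero,
      tsub_self, Nat.factorial_zero, Nat.factorization_one, zero_add]
    exact sum_congr rfl fun s hs => by rw [Nat.dist_eq_sub_of_le_right (mem_range.mp hs).le]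
  | succ a ih =>
    rw [← add_assoc, sum_range_succ, ih, Nat.dist_eq_sub_of_le (by omega),
      show t + 1 + a - t = a + 1 by omega, Nat.factorial_succ,
      Nat.factorization_mul (by omega) (Nat.factorial_ne_zero _), Finsupp.add_apply]
    ring

/-- The hook product of a hook. -/
theorem hv_single {c : ℕ} (t : Fin c) {a m : ℕ} (ha : c = t + 1 + a) (hm : a < m) :
    hv p ((fun i : Fin c => (i : ℕ)) + Pi.single t m) =
      m.factorization p + (a !).factorization p + ((m - 1 - a)!).factorization p := by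
  have h0 := hv_id (p := p) c
  rw [hv, sum_pairs_split t _ (fun i j => by rw [Nat.dist_comm]),
    ← add_sum_erase _ _ (mem_univ t)] at h0 ⊢
  have e : ∀ i ∈ univ.erase t, ((fun i : Fin c => (i : ℕ)) + Pi.single t m : Fin c → ℕ) i = i :=
    fun i hi => by simp [(mem_erase.mp hi).1]
  have e1 : ∑ s ∈ univ.erase t, ((Nat.dist t (s : Fin c)).factorization p : ℤ) =
      ((t : ℕ)!).factorization p + (a !).factorization p := by
    rw [sum_erase _ (by simp), Fin.sum_univ_eq_sum_range
      (fun s => ((Nat.dist t s).factorization p : ℤ))]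
    exact_mod_cast (congrArg (fun c => ∑ s ∈ range c, (Nat.dist t s).factorization p) ha).trans
      (sum_dist t a)
  have e2 : ∑ s ∈ univ.erase t, ((Nat.dist (t + m) (s : Fin c)).factorization p : ℤ) +
      m.factorization p + ((m - 1 - a)!).factorization p = (((t : ℕ) + m)!).factorization p := by
    rw [fact_desc (x := t + m) (c := c) (by omega), show t + m - c = m - 1 - a by omega,
      ← Fin.sum_univ_eq_sum_range (fun s => ((t : ℕ) + m - s).factorization p),
      ← add_sum_erase _ _ (mem_univ t), Nat.add_sub_cancel_left]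
    push_cast
    rw [sum_congr rfl fun s _ => by
      rw [Nat.dist_eq_sub_of_le_right (show (s : ℕ) ≤ t + m by have := s.2; omega)]]
    ring
  set β : Fin c → ℕ := (fun i : Fin c => (i : ℕ)) + Pi.single t m with hβ
  have f0 : β t = t + m := by simp [hβ]
  have f1 : ∑ i ∈ univ.erase t, (((β i)!).factorization p : ℤ) =
      ∑ i ∈ univ.erase t, (((i : ℕ)!).factorization p : ℤ) :=
    sum_congr rfl fun i hi => by rw [e i hi]
  have f2 : ∑ i ∈ univ.erase t, ∑ j ∈ (Ioi i).erase t, ((Nat.dist (β j) (β i)).factorization p : ℤ) =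
      ∑ i ∈ univ.erase t, ∑ j ∈ (Ioi i).erase t, ((Nat.dist j i).factorization p : ℤ) :=
    sum_congr rfl fun i hi => sum_congr rfl fun j hj => by
      rw [e i hi, e j (by simpa using (mem_erase.mp hj).1)]
  have f3 : ∑ s ∈ univ.erase t, ((Nat.dist (β t) (β s)).factorization p : ℤ) =
      ∑ s ∈ univ.erase t, ((Nat.dist (t + m) (s : Fin c)).factorization p : ℤ) :=
    sum_congr rfl fun i hi => by rw [e i hi, f0]
  rw [f1, f2, f3, f0]
  linarith

end H33.Sn
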