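import Mathlib
import Cfsg.Agent.Lib.Blk86.IBr
import Cfsg.Agent.Lib.SnRep.Val

/-!
Characters and blocks of the alternating groups versus those of the symmetric groups.
-/

set_option autoImplicit false
set_option linter.unusedSectionVars false
set_option linter.style.haveILetI false
attribute [local irreducible] H33.instFieldF

namespace H33.Sn

open Finset Equiv Cfsg ComplexConjugate
open H35 (Over Covers cjI cjN)

variable {p : ℕ} [hp : Fact p.Prime] {M : Ideal AlgInt} [M.IsMaximal]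

section aut
variable {H : Type*} [Group H] [Finite H]

lemma chiL_comp (α : H ≃* H) (θ : H → ℂ) (x : MonoidAlgebra ℂ H) :
    chiL (fun h => θ (α h)) x = chiL θ (H86.emb α.toMonoidHom x) := by
  induction x using MonoidAlgebra.induction_linear with
  | zero => simp
  | add a b ha hb => rw [map_add, map_add, map_add, ha, hb]
  | single a r => rw [H86.emb_single, chiL_single, chiL_single]; rfl

theorem exists_perm_phi (hM : IsPModular p M) (W : H64.MR.Wedd (F M) H) (α : H ≃* H)
    (hα : ∀ θ, IsClassFunction H θ → ∀ h, θ (α (α h)) = θ h) :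
    ∃ π : Fin W.n → Fin W.n, (∀ j, π (π j) = j) ∧
      ∀ j, (fun h => H86.phi p W j (α h)) = H86.phi p W (π j) := by
  have h1 : ∀ j k, ∃ n : ℕ, chiL (fun h => H86.phi p W j (α h)) (H86.ide W k) = n := fun j k => by
    rw [chiL_comp]
    exact H86.chiL_phi_nat hM j ((H86.emb_mem_OG α.injective).mpr (H86.ide_mem k))
      (by rw [← map_mul, H86.ide_idem])
  choose n hn using h1
  have h2 : ∀ j, (fun h => H86.phi p W j (α h)) = ∑ k, (n j k : ℂ) • H86.phi p W k := fun j => by
    simp only [← hn]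
    rw [← H86.reg_eq_sum_phi W hM fun g h => by simpa using H86.phi_class hM j (α g) (α h)]
    funext h
    by_cases hh : p ∣ orderOf h
    · rw [H84.reg_of_sing _ hh, (H86.phi_spec hM j).2.1 _ (by rwa [α.orderOf_eq])]
    · rw [H84.reg_of_reg _ hh]
  have h3 : ∀ j l, ∑ k, n j k * n k l = if j = l then 1 else 0 := fun j l => by
    have e : H86.phi p W j = ∑ k, (n j k : ℂ) • fun h => H86.phi p W k (α h) := by
      funext h
      rw [← hα _ (H86.phi_class hM j) h, congrFun (h2 j) (α h)]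
      simp
    have := H86.chiL_phi_ide hM j l
    rw [e, chiL_sum_fun] at this
    simp only [chiL_smul_fun, hn] at this
    exact_mod_cast this
  have h4 : ∀ j, ∃ k, n j k = 1 ∧ n k j = 1 ∧ ∀ l, l ≠ k → n j l = 0 := fun j => by
    have := h3 j j
    rw [if_pos rfl] at this
    obtain ⟨k, -, hk⟩ := exists_ne_zero_of_sum_ne_zero (this ▸ one_ne_zero)
    have h5 : n j k * n k j = 1 := le_antisymm
      (this ▸ single_le_sum (f := fun k => n j k * n k j) (fun _ _ => Nat.zero_le _) (mem_univ k))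
      (Nat.pos_of_ne_zero hk)
    refine ⟨k, Nat.eq_one_of_mul_eq_one_right h5, Nat.eq_one_of_mul_eq_one_left h5, fun l hl => ?_⟩
    have h6 := h3 k l
    rw [if_neg hl.symm, sum_eq_zero_iff] at h6
    simpa [Nat.eq_one_of_mul_eq_one_left h5] using h6 j (mem_univ j)
  choose π h5 h6 h7 using h4
  refine ⟨π, fun j => ?_, fun j => ?_⟩
  · by_contra hc
    have := h7 (π j) j (Ne.symm hc)
    rw [h6] at this
    exact one_ne_zero this
  · rw [h2, sum_eq_single (π j) (fun l _ hl => by simp [h7 j l hl]) (by simp), h5]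
    simp

theorem rank_le_two_mul (hM : IsPModular p M) {b : Set (IrrCharacter H)} (hb : IsPBlock M b)
    (α : H ≃* H) (hα : ∀ θ, IsClassFunction H θ → ∀ h, θ (α (α h)) = θ h)
    (R : Submodule ℂ (H → ℂ))
    (hR : ∀ θ ∈ b, pRegularPart p θ.1 + (fun h => pRegularPart p θ.1 (α h)) ∈ R) :
    blockRank p b ≤ 2 * Module.finrank ℂ R := by
  obtain ⟨W⟩ := H64.MR.exists_wedd (F M) H
  obtain ⟨π, h1, h2⟩ := exists_perm_phi hM W α hα
  rw [← H86.card_ibr W hM hb]
  have mem : ∀ j ∈ H86.ibr W b, H86.phi p W j + H86.phi p W (π j) ∈ R := by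
    intro j hj
    have : H86.phi p W j ∈ H84.regSpan p b := by
      rw [H86.regSpan_eq W hM hb]
      exact Submodule.subset_span ⟨⟨j, hj⟩, rfl⟩
    rw [← h2]
    refine Submodule.span_induction (p := fun f _ => f + (fun h => f (α h)) ∈ R) ?_ ?_ ?_ ?_ this
    · rintro _ ⟨θ, hθ, rfl⟩; exact hR θ hθ
    · rw [zero_add]; exact R.zero_mem
    · intro x y _ _ hx hy
      convert R.add_mem hx hy using 1
      funext h; simp; ring
    · intro c x _ hx
      convert R.smul_mem c hx using 1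
      funext h; simp; ring
  let S := (H86.ibr W b).filter fun j => π j ∉ H86.ibr W b ∨ j ≤ π j
  have h3 : #(H86.ibr W b) ≤ 2 * #S := by
    refine (card_le_card (t := S ∪ S.image π) fun j hj => ?_).trans
      ((card_union_le _ _).trans (by have := card_image_le (s := S) (f := π); omega))
    by_cases h : π j ∉ H86.ibr W b ∨ j ≤ π j
    · exact mem_union_left _ (mem_filter.mpr ⟨hj, h⟩)
    · push Not at h
      exact mem_union_right _ (mem_image.mpr
        ⟨π j, mem_filter.mpr ⟨h.1, Or.inr (by rw [h1]; exact h.2.le)⟩, h1 j⟩)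
  refine h3.trans (Nat.mul_le_mul_left 2 ?_)
  have h4 : LinearIndependent ℂ fun j : S => (⟨_, mem j (mem_filter.mp j.2).1⟩ : R) := by
    refine LinearIndependent.of_comp R.subtype (Fintype.linearIndependent_iff.mpr fun c hc k => ?_)
    have := congrArg (fun f => chiL f (H86.ide W k)) hc
    simp only [Function.comp_apply, Submodule.subtype_apply, chiL_sum_fun, chiL_smul_fun,
      chiL_add_fun, H86.chiL_phi_ide hM] at this
    rw [sum_eq_single k] at this
    · have z : chiL (0 : H → ℂ) (H86.ide W k) = 0 := by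
        have := chiL_smul_fun (0 : ℂ) (0 : H → ℂ) (H86.ide W k)
        rwa [zero_smul, zero_mul] at this
      rw [z] at this
      refine (mul_eq_zero.mp this).resolve_right ?_
      split_ifs <;> simp_all
    · intro j _ hj
      rw [if_neg (Subtype.coe_ne_coe.mpr hj), if_neg, add_zero, mul_zero]
      intro e
      have a1 := mem_filter.mp j.2
      have a2 := mem_filter.mp k.2
      rw [← e, h1] at a2
      exact hj (Subtype.ext ((le_antisymm (by tauto) (by tauto)).trans e))
    · simp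
  simpa using h4.fintype_card_le_finrank

end aut

variable {Ω : Type*} [Fintype Ω] [DecidableEq Ω]

local notation "𝔄" => alternatingGroup Ω

lemma sg_of_mem {g : Perm Ω} (h : g ∈ 𝔄) : sg g = 1 := by simp [sg, Perm.mem_alternatingGroup.mp h]

lemma sg_of_notMem {g : Perm Ω} (h : g ∉ 𝔄) : sg g = -1 := by
  simp [sg, (Int.units_eq_one_or _).resolve_left (mt Perm.mem_alternatingGroup.mpr h)]

lemma exists_rep : ∃ t : Perm Ω, ∀ g, g ∈ 𝔄 ∨ g * t⁻¹ ∈ 𝔄 := by
  by_cases h : ∃ t, t ∉ 𝔄
  · obtain ⟨t, ht⟩ := h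
    refine ⟨t, fun g => or_iff_not_imp_left.mpr fun hg => ?_⟩
    rw [Perm.mem_alternatingGroup] at *
    simp [(Int.units_eq_one_or _).resolve_left ht, (Int.units_eq_one_or _).resolve_left hg]
  · push Not at h
    exact ⟨1, fun g => Or.inl (h g)⟩

lemma index_alt : (𝔄).index = 1 ∨ (𝔄).index = 2 := by
  have h1 : (𝔄).index ≤ 2 := by
    rw [alternatingGroup_eq_sign_ker, Subgroup.index_ker]
    simpa using Subgroup.card_le_card_group (Perm.sign : Perm Ω →* ℤˣ).range
  have := Subgroup.index_ne_zero_of_finite (H := 𝔄)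
  omega

/-- The product of a character with the sign. -/
noncomputable def tw (χ : IrrCharacter (Perm Ω)) : IrrCharacter (Perm Ω) :=
  ⟨fun g => χ.1 g * sg g,
    H6.isIrrCharacter_mul_hom χ.2 ((Units.map (Int.castRingHom ℂ).toMonoidHom).comp Perm.sign)⟩

lemma cjI_cases {t : Perm Ω} (ht : ∀ g, g ∈ 𝔄 ∨ g * t⁻¹ ∈ 𝔄) (g : Perm Ω) (θ : IrrCharacter 𝔄) :
    cjI g θ = θ ∨ cjI g θ = cjI t θ := by
  rcases ht g with h | h
  · exact Or.inl (H35.cjI_of_mem h θ)
  · right
    rw [← inv_mul_cancel_right g t, H35.cjI_mul, H35.cjI_of_mem h]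

theorem res_cases {t : Perm Ω} (ht : ∀ g, g ∈ 𝔄 ∨ g * t⁻¹ ∈ 𝔄) {χ : IrrCharacter (Perm Ω)}
    {θ : IrrCharacter 𝔄} (h : Over χ.1 θ.1) : (fun n : 𝔄 => χ.1 n) = θ.1 ∨
      ((fun n : 𝔄 => χ.1 n) = θ.1 + (cjI t θ).1 ∧ ∀ g ∉ 𝔄, χ.1 g = 0) := by
  have hr : IsCharacter 𝔄 fun n : 𝔄 => χ.1 n := H6.isCharacter_comp (𝔄).subtype (H84.irr_char χ)
  obtain ⟨m, hm⟩ := H6.char_inner_nat hr (H84.irr_char θ)
  have hm0 : m ≠ 0 := by rintro rfl; exact h (by simpa using hm)
  have h1 := H6.classFun_eq_sum_irr (H6.char_isClassFunction hr)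
  have h2 : ∀ ψ : IrrCharacter 𝔄, ψ ≠ θ → ψ ≠ cjI t θ →
      classInner (fun n : 𝔄 => χ.1 n) ψ.1 • ψ.1 = 0 := by
    intro ψ a1 a2
    by_contra hc
    obtain ⟨g, rfl⟩ := H35.exists_cjI_of_over χ h (left_ne_zero_of_smul hc)
    exact (cjI_cases ht g θ).elim a1 a2
  have h3 : 2 * Nat.card 𝔄 * classInner (fun n : 𝔄 => χ.1 n) (fun n : 𝔄 => χ.1 n) =
      Nat.card (Perm Ω) * (1 + if tw χ = χ then 1 else 0) := by
    rw [← H6.irr_inner' (tw χ) χ, ← H6.irr_inner_self χ.2, mul_add, mul_assoc,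
      H6.card_mul_classInner, H6.card_mul_classInner, H6.card_mul_classInner, ← sum_add_distrib,
      ← sum_subtype (p := (· ∈ 𝔄)) (univ.filter (Perm.sign · = 1)) (by simp)
        fun g => χ.1 g * conj (χ.1 g), sum_filter, mul_sum]
    refine sum_congr rfl fun g _ => ?_
    split_ifs with hg
    · simp only [tw, sg_of_mem hg]; ring
    · simp only [tw, sg_of_notMem hg]; ring
  have h4 : Nat.card (Perm Ω) ≤ 2 * Nat.card 𝔄 := by
    rw [← (𝔄).index_mul_card]
    exact Nat.mul_le_mul_right _ (by rcases index_alt (Ω := Ω) with h | h <;> omega)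
  have h5 : 0 < Nat.card 𝔄 := Nat.card_pos
  by_cases e : cjI t θ = θ
  · rw [sum_eq_single θ (fun ψ _ a => h2 ψ a (by rwa [e])) (fun h => absurd (mem_univ _) h),
      hm] at h1
    rw [h1, H6.classInner_smul_left, H6.classInner_smul_right, H6.irr_inner_self θ.2] at h3
    have h6 : 2 * Nat.card 𝔄 * (m * m) = Nat.card (Perm Ω) * (1 + if tw χ = χ then 1 else 0) := by
      simp only [map_natCast, mul_one] at h3
      exact_mod_cast h3
    have : m = 1 := by
      by_contra hc
      have : 4 ≤ m * m := by nlinarith [show 2 ≤ m by omega]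
      split_ifs at h6 <;> nlinarith
    left
    rw [h1, this]; simp
  · rw [← sum_subset (subset_univ {θ, cjI t θ}) (fun ψ _ a => h2 ψ
        (fun h => a (h ▸ mem_insert_self _ _)) fun h => a (h ▸ mem_insert_of_mem (mem_singleton_self _))),
      sum_pair (Ne.symm e), H35.coe_cjI, H35.classInner_res_cj (H6.irr_isClassFunction χ.2), hm,
      ← H35.coe_cjI, ← smul_add] at h1
    rw [h1, H6.classInner_smul_left, H6.classInner_smul_right, H6.classInner_add_left,
      H6.classInner_add_right, H6.classInner_add_right, H6.irr_inner', H6.irr_inner', H6.irr_inner',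
      H6.irr_inner'] at h3
    have h6 : 2 * Nat.card 𝔄 * (m * m * 2) =
        Nat.card (Perm Ω) * (1 + if tw χ = χ then 1 else 0) := by
      simp only [map_natCast, if_true, e, Ne.symm e, if_false] at h3
      have h7 : (2 * Nat.card 𝔄 * (m * m * 2) : ℂ) = _ := Eq.trans (by ring) h3
      exact_mod_cast h7
    have h7 : 1 ≤ m * m := Nat.pos_of_ne_zero (mul_ne_zero hm0 hm0)
    have h8 : tw χ = χ := by
      by_contra hc
      rw [if_neg hc] at h6
      nlinarith
    have : m = 1 := by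
      by_contra hc
      have : 4 ≤ m * m := by nlinarith [show 2 ≤ m by omega]
      rw [if_pos h8] at h6
      nlinarith
    refine Or.inr ⟨by rw [h1, this]; simp, fun g hg => ?_⟩
    have h9 := congrFun (congrArg Subtype.val h8) g
    simp only [tw, sg_of_notMem hg] at h9
    linear_combination (-1 / 2) * h9

theorem exists_over_mem (hM : IsPModular p M) {B : Set (IrrCharacter (Perm Ω))}
    (hB : IsPBlock M B) {b : Set (IrrCharacter 𝔄)} (hb : IsPBlock M b) (h : Covers B b)
    {θ : IrrCharacter 𝔄} (hθ : θ ∈ b) : ∃ χ ∈ B, Over χ.1 θ.1 := by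
  obtain ⟨χ, hχ⟩ := H35.exists_over θ
  have hB' := isPBlock_blockOf (M := M) χ
  have hc : Covers (blockOf M χ.1) b := ⟨χ, mem_blockOf_self χ, θ, hθ, hχ⟩
  by_cases h2 : p = 2
  · subst h2
    refine ⟨χ, ?_, hχ⟩
    rw [h.unique_of_index hM (index_alt.elim (fun h => ⟨0, h⟩) fun h => ⟨1, h⟩) hB hB' hb hc]
    exact mem_blockOf_self χ
  let f : Perm Ω → ℂ := fun g => blockCoeff B g * (1 + sg g)
  have f1 : IsClassFunction _ f := fun g k => by
    simp only [f, H84.isClassFunction_blockCoeff B g k, sg_mul, sg_inv]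
    rw [mul_right_comm (sg k), sg_mul_self, one_mul]
  have f2 : ∀ g, f g ∈ O M := fun g => (O M).mul_mem (blockCoeff_mem_O hB g)
    ((O M).add_mem (O M).one_mem (intCast_mem _ _))
  have f3 : ∀ g, g ∉ 𝔄 → red M (f g) = 0 := fun g hg => by simp [f, sg_of_notMem hg]
  have f4 : ∀ χ : IrrCharacter (Perm Ω), H84.om f χ.1 =
      H84.om (blockCoeff B) χ.1 + H84.om (blockCoeff B) (tw χ).1 := fun χ => by
    simp only [H84.om, f, tw, sg_of_mem (𝔄).one_mem, mul_one, ← add_div, ← sum_add_distrib]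
    congr 1
    exact sum_congr rfl fun g _ => by ring
  obtain ⟨χ₀, h0, -⟩ := id h
  have h1 := (hc.red_om hB' hb (mem_blockOf_self χ) hθ f1 f2 f3).trans
    (h.red_om hB hb h0 hθ f1 f2 f3).symm
  rw [f4, f4, H84.om_blockCoeff_of_mem h0] at h1
  by_cases a1 : χ ∈ B
  · exact ⟨χ, a1, hχ⟩
  by_cases a2 : tw χ ∈ B
  · exact ⟨tw χ, a2, by simpa [Over, tw, sg_of_mem] using hχ⟩
  exfalso
  rw [H84.om_blockCoeff_of_not_mem a1, H84.om_blockCoeff_of_not_mem a2, add_zero, red_zero] at h1
  by_cases a3 : tw χ₀ ∈ B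
  · rw [H84.om_blockCoeff_of_mem a3] at h1
    refine red_natCast_ne_zero hM (n := 2) (fun hd => h2 ?_) (by rw [h1]; norm_num)
    exact (Nat.prime_dvd_prime_iff_eq hp.out Nat.prime_two).mp hd
  · rw [H84.om_blockCoeff_of_not_mem a3, add_zero, red_one] at h1
    exact zero_ne_one h1

theorem exists_defect_inf (hM : IsPModular p M) {B : Set (IrrCharacter (Perm Ω))}
    (hB : IsPBlock M B) {b : Set (IrrCharacter 𝔄)} (hb : IsPBlock M b) (h : Covers B b)
    {D : Subgroup 𝔄} (hD : IsDefectGroup p M b D) :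
    ∃ P, IsDefectGroup p M B P ∧ P ⊓ 𝔄 = D.map (𝔄).subtype := by
  haveI := charP hM
  obtain ⟨P, h1, -, h2⟩ := ((H86.isDefectGroup_sub_iff hb D).mp hD).exists_inf_eq (H86.isBlk_eS hb)
    (H86.isBlk_eB hB) le_top (by rw [top_le_iff]; exact Subgroup.normalizer_eq_top _)
    ((H86.covers_iff hB hb).mp h)
  exact ⟨P, (H86.isDefectGroup_iff hB P).mpr h1, h2⟩

end H33.Sn
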