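import Mathlib
import Cfsg.Agent.S4698
import Cfsg.Agent.S4733
import Cfsg.Agent.Lib.SnRep.Idx

/-!
Defect groups of blocks of symmetric and alternating groups, and the number of Brauer characters
in blocks of alternating groups.
-/

set_option autoImplicit false
set_option linter.unusedSectionVars false
set_option linter.style.haveILetI false
attribute [local irreducible] H33.instFieldF

namespace H33.Sn

open Finset Equiv Cfsg ComplexConjugate
open H35 (Over Covers cjI cjN)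
open H86 (cs)
open scoped Nat

variable {p w N : ℕ} [hp : Fact p.Prime] {M : Ideal AlgInt} [M.IsMaximal] {Ω Z : Type*} [Fintype Ω]
  [DecidableEq Ω] [Fintype Z] [DecidableEq Z] {ρ : Fin N → ℕ}

local notation "𝔄" => alternatingGroup Ω

lemma card_sylow_wp (S : Sylow p (Perm (Fin w × ZMod p))) :
    Nat.card S = p ^ (w + (w !).factorization p) := by
  rw [S.card_eq_multiplicity, Nat.card_eq_fintype_card, Fintype.card_perm, Fintype.card_prod,
    Fintype.card_fin, ZMod.card, mul_comm, Nat.factorization_factorial_mul hp.out, add_comm]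

theorem Dat.height (h : Dat p w ρ Ω Z) (hB : IsPBlock M (JJ Ω p ρ w)) {χ : IrrCharacter (Perm Ω)}
    (hχ : χ ∈ JJ Ω p ρ w) {b : Fin N → ℕ} (hi : Function.Injective (cfg p ρ b))
    (hb : ∑ i, b i = w + ∑ i, cc ρ i) (hc : IsCh χ.1 (cfg p ρ b)) :
    (blockHeight p (JJ Ω p ρ w) χ.1 : ℤ) + hv p (cfg p ρ b) = blockDefect p (JJ Ω p ρ w) := by
  have h1 := degree_factorization_add (p := p) hB hχ
  have h2 := hv_eq (p := p) hc (h.sum_cfg hb) hi
  rw [Nat.card_eq_fintype_card, Fintype.card_perm] at h1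
  omega

theorem Dat.defect (hM : IsPModular p M) (h : Dat p w ρ Ω Z) (hB : IsPBlock M (JJ Ω p ρ w))
    (e : Fin w × ZMod p ⊕ Z ≃ Ω) (S : Sylow p (Perm (Fin w × ZMod p))) :
    IsDefectGroup p M (JJ Ω p ρ w) ((S : Subgroup _).map (el e)) ∧
      blockDefect p (JJ Ω p ρ w) = w + (w !).factorization p := by
  obtain ⟨D, hD⟩ := exists_defectGroup p hB
  obtain ⟨χ, hχ, h0⟩ := exists_height_zero p hB
  obtain ⟨b, b1, b2, b3⟩ := id hχ
  have h1 := h.height hB hχ (b1.inj h.hρ) b2 b3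
  have h2 := (hv_cfg_le h.hρ (b1.inj h.hρ) b2).2
  have h3 : Nat.card ((S : Subgroup _).map (el e)) = p ^ (w + (w !).factorization p) := by
    rw [Subgroup.card_map_of_injective (el_injective e), card_sylow_wp]
  have h4 := defect_of_card_le hM hB hD (S.isPGroup'.map _) (h.br_ne_zero hM hB e _) (by
    rw [defect_card hM hB hD, h3]
    exact Nat.pow_le_pow_right hp.out.pos (by omega))
  exact ⟨h4, Nat.pow_right_injective hp.out.two_le ((defect_card hM hB h4).symm.trans h3)⟩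

/-- The structure of a block of the alternating group. -/
theorem exists_alt (hM : IsPModular p M) {b : Set (IrrCharacter 𝔄)} (hb : IsPBlock M b)
    {D : Subgroup 𝔄} (hD : IsDefectGroup p M b D) :
    ∃ (N w z : ℕ) (ρ : Fin N → ℕ) (e : Fin w × ZMod p ⊕ Fin z ≃ Ω), Dat p w ρ Ω (Fin z) ∧
      IsPBlock M (JJ Ω p ρ w) ∧ Covers (JJ Ω p ρ w) b ∧ ∀ S : Sylow p (Perm (Fin w × ZMod p)),
        ∃ k, D.map (𝔄).subtype = cs k (((S : Subgroup _) ⊓ alternatingGroup _).map (el e)) := by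
  obtain ⟨B, hB, hc⟩ := H35.exists_covers hb
  obtain ⟨N, w, z, ρ, h, rfl⟩ := exists_dat hM hB
  obtain ⟨e⟩ := h.exists_equiv
  refine ⟨N, w, z, ρ, e, h, hB, hc, fun S => ?_⟩
  obtain ⟨P, h1, h2⟩ := exists_defect_inf hM hB hb hc hD
  obtain ⟨k, rfl⟩ := defect_conj hM hB (h.defect hM hB e S).1 h1
  refine ⟨k, ?_⟩
  have h3 : cs k 𝔄 = 𝔄 := H86.mem_Nor_iff_cs.mp (by
    rw [H86.Nor, Subgroup.normalizer_eq_top]; trivial)
  rw [← h2, ← h3, ← H86.cs_inf]
  congr 1
  ext g
  simp only [Subgroup.mem_inf, Subgroup.mem_map, Perm.mem_alternatingGroup]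
  constructor
  · rintro ⟨⟨y, hy, rfl⟩, h⟩
    exact ⟨y, ⟨hy, by rwa [sign_el] at h⟩, rfl⟩
  · rintro ⟨y, hy, rfl⟩
    exact ⟨⟨y, hy.1, rfl⟩, by rw [sign_el, hy.2]⟩

lemma mem_alt_of_pow (h2 : p ≠ 2) {g : Perm Ω} {k : ℕ} (h : g ^ p ^ k = 1) : g ∈ 𝔄 := by
  have h1 := congrArg Perm.sign h
  rw [map_pow, map_one] at h1
  rcases Int.units_eq_one_or (Perm.sign g) with h | h
  · exact h
  · rw [h, Odd.neg_one_pow (hp.out.odd_of_ne_two h2).pow] at h1
    exact absurd h1 (by decide)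

lemma le_alt (h2 : p ≠ 2) {P : Subgroup (Perm Ω)} (hP : IsPGroup p P) : P ≤ 𝔄 := fun g hg => by
  obtain ⟨k, hk⟩ := hP ⟨g, hg⟩
  exact mem_alt_of_pow h2 (congrArg Subtype.val hk)

lemma card_inf_alt {P : Subgroup (Perm Ω)} {g : Perm Ω} (hg : g ∈ P) (h : g ∉ 𝔄) :
    Nat.card (P ⊓ 𝔄 : Subgroup _) * 2 = Nat.card P := by
  rw [H35.card_eq_inf_mul P 𝔄]
  congr 1
  have h1 : (𝔄).relIndex P ∣ 2 := ((𝔄).relIndex_dvd_index_of_normal P).trans
    (by rcases index_alt (Ω := Ω) with h | h <;> simp [h])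
  exact (((Nat.dvd_prime Nat.prime_two).mp h1).resolve_left
    fun h' => h (Subgroup.relIndex_eq_one.mp h' hg)).symm

lemma sign_tr {W V : Type*} [Fintype W] [DecidableEq W] [Fintype V] [DecidableEq V] [AddCommGroup V]
    (a : Multiplicative (W → V)) :
    Perm.sign (tr W V a) = ∏ i, Perm.sign (Equiv.addRight (a.toAdd i)) := by
  convert Perm.sign_prodCongrRight fun i => Equiv.addRight (a.toAdd i)
  rfl

lemma sign_addRight_two (x : ZMod 2) : Perm.sign (Equiv.addRight x) = if x = 0 then 1 else -1 := by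
  revert x; decide

lemma sign_addRight_four (x : ZMod 2 × ZMod 2) : Perm.sign (Equiv.addRight x) = 1 := by
  revert x; decide

lemma tr_single_notMem (i : Fin w) :
    tr (Fin w) (ZMod 2) (Multiplicative.ofAdd (Pi.single i 1)) ∉ alternatingGroup _ := by
  rw [Perm.mem_alternatingGroup, sign_tr, prod_eq_single i]
  · simp [sign_addRight_two]
  · intro j _ hj; simp [hj]
  · simp

lemma isPGroup_tr : IsPGroup p (tr (Fin w) (ZMod p)).range := by
  rintro ⟨_, a, rfl⟩
  exact ⟨1, Subtype.ext (by simp [← map_pow, tr_pow])⟩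

theorem card_le_alt {D : Subgroup 𝔄} {s : ℕ} (hs : SectionalPRankLE p s D)
    {e : Fin w × ZMod p ⊕ Z ≃ Ω} (hS : ∀ S : Sylow p (Perm (Fin w × ZMod p)),
      ∃ k, D.map (𝔄).subtype = cs k (((S : Subgroup _) ⊓ alternatingGroup _).map (el e)))
    {V : Type*} [CommGroup V] (f : V →* Perm (Fin w × ZMod p)) (hf : Function.Injective f)
    (hV : ∀ v : V, v ^ p = 1) (ha : ∀ v, f v ∈ alternatingGroup _) : Nat.card V ≤ p ^ s := by
  obtain ⟨S, h1⟩ := IsPGroup.exists_le_sylow (P := f.range) (p := p) (by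
    rintro ⟨_, a, rfl⟩
    exact ⟨1, Subtype.ext (by simp [← map_pow, hV])⟩)
  obtain ⟨k, hk⟩ := hS S
  have h2 : ∀ v, k * el e (f v) * k⁻¹ ∈ D.map (𝔄).subtype := fun v =>
    hk ▸ H86.conj_mem_cs.mpr ⟨f v, ⟨h1 ⟨v, rfl⟩, ha v⟩, rfl⟩
  let g : V →* 𝔄 := ((MulAut.conj k).toMonoidHom.comp ((el e).comp f)).codRestrict _ fun v =>
    Subgroup.map_subtype_le _ (h2 v)
  refine card_le_of_sec hs g (fun a b h => hf (el_injective e (by simpa [g] using h))) hV 1 ?_
  rintro _ ⟨v, rfl⟩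
  obtain ⟨d, hd, h3⟩ := h2 v
  rw [H86.cs_one, show g v = d from Subtype.ext h3.symm]
  exact hd

/-- Restriction to the alternating group. -/
noncomputable abbrev RR (Ω : Type*) [Fintype Ω] [DecidableEq Ω] (p : ℕ) (ρ : Fin N → ℕ) :
    Submodule ℂ (alternatingGroup Ω → ℂ) := (UU Ω p ρ).map (LinearMap.funLeft ℂ ℂ Subtype.val)

lemma Dat.res_mem (h : Dat p w ρ Ω Z) {χ : IrrCharacter (Perm Ω)} (hχ : χ ∈ JJ Ω p ρ w) :
    pRegularPart p (fun n : 𝔄 => χ.1 n) ∈ RR Ω p ρ :=
  ⟨_, h.reg_mem hχ, funext fun n => by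
    by_cases hn : p ∣ orderOf n <;> simp [pRegularPart, IsPRegular, hn]⟩

lemma Dat.finrank_RR (h : Dat p w ρ Ω Z) : Module.finrank ℂ (RR Ω p ρ) ≤ (TT ρ w).ncard :=
  (Submodule.finrank_map_le _ _).trans (finrank_UU hp.out h.hρ h.hN h.sum_eq)

theorem Dat.alt_rank (hM : IsPModular p M) (h : Dat p w ρ Ω Z) (hB : IsPBlock M (JJ Ω p ρ w))
    {b : Set (IrrCharacter 𝔄)} (hb : IsPBlock M b) (hc : Covers (JJ Ω p ρ w) b) :
    blockRank p b ≤ 2 * (TT ρ w).ncard := by
  obtain ⟨t, ht⟩ := exists_rep (Ω := Ω)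
  refine (rank_le_two_mul hM hb (MulAut.conjNormal t) (fun θ hθ x => ?_) (RR Ω p ρ)
    fun θ hθ => ?_).trans (Nat.mul_le_mul_left _ h.finrank_RR)
  · rw [← hθ x ⟨t * t, by simp⟩]
    exact congrArg θ (Subtype.ext (by simp [mul_assoc]))
  · obtain ⟨χ, h1, h2⟩ := exists_over_mem hM hB hb hc hθ
    have h3 := h.res_mem h1
    have h4 : (fun x => pRegularPart p θ.1 (MulAut.conjNormal t x)) = pRegularPart p (cjI t θ).1 := by
      funext x
      simp only [pRegularPart, IsPRegular, MulEquiv.orderOf_eq]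
      congr
    rw [h4]
    rcases res_cases ht h2 with h5 | ⟨h5, -⟩
    · rw [H35.coe_cjI, ← h5, H35.cj_res (H6.irr_isClassFunction χ.2)]
      exact add_mem h3 h3
    · rw [h5] at h3
      convert h3 using 1
      funext x
      simp only [pRegularPart, Pi.add_apply]
      split_ifs <;> simp

lemma uu_notMem (e : Fin w × ZMod 2 ⊕ Z ≃ Ω) (hw : Odd w) : el e (uu w 2) ∉ 𝔄 := by
  rw [Perm.mem_alternatingGroup, sign_el, uu, sign_tr]
  simp [sign_addRight_two, hw.neg_one_pow]

theorem blockRank_alt_lt (hM : IsPModular p M) {b : Set (IrrCharacter 𝔄)}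
    (hb : IsPBlock M b) {D : Subgroup 𝔄} (hD : IsDefectGroup p M b D) (h1 : D ≠ ⊥) {s : ℕ}
    (hs : SectionalPRankLE p s D) : blockRank p b < p ^ s := by
  obtain ⟨N, w, z, ρ, e, h, hB, hc, hS⟩ := exists_alt hM hb hD
  have hd : blockDefect p b ≠ 0 := mt (blockDefect_eq_zero_iff_bot hM hb hD).mp h1
  have small : ∀ k ≤ 2, blockDefect p b ≤ k → p ^ k ≤ p ^ s → blockRank p b < p ^ s := by
    intro k hk h2 h3
    obtain ⟨a1, -, a2⟩ := Cfsg.Agent.S4733.result p M hM b hb
    have a3 := (Cfsg.Agent.S4698.result p M hM b hb _ rfl).1 (h2.trans hk)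
    have a4 := mt a2.mpr hd
    have := Nat.pow_le_pow_right hp.out.pos h2
    omega
  obtain ⟨S, hQ⟩ := (isPGroup_tr (p := p) (w := w)).exists_le_sylow
  obtain ⟨k, hk⟩ := hS S
  have c1 : p ^ blockDefect p b = Nat.card ((S : Subgroup (Perm (Fin w × ZMod p))) ⊓
      alternatingGroup _ : Subgroup _) := by
    rw [← defect_card hM hb hD, ← Subgroup.card_map_of_injective (𝔄).subtype_injective, hk,
      H86.card_cs, Subgroup.card_map_of_injective (el_injective e)]
  have r1 := h.alt_rank hM hB hb hc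
  by_cases h2 : p = 2
  swap
  · have s1 : p ^ w ≤ p ^ s := by
      simpa using card_le_alt hs hS _ (tr_injective _ _) (tr_pow _) fun v =>
        le_alt h2 isPGroup_tr ⟨v, rfl⟩
    rcases le_or_gt 3 w with hw | hw
    · exact (r1.trans_lt (two_mul_ncard_TT_lt h.hρ hw hp.out.pos)).trans_le s1
    · refine small w (by omega) ?_ s1
      rw [inf_eq_left.mpr (le_alt h2 S.isPGroup'), card_sylow_wp,
        Nat.factorization_factorial_eq_zero_of_lt (by have := hp.out.two_le; omega)] at c1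
      exact (Nat.pow_right_injective hp.out.two_le c1).le
  subst h2
  have hw0 : w ≠ 0 := by
    rintro rfl
    rw [Nat.card_eq_one_iff_unique.mpr ⟨inferInstance, inferInstance⟩] at c1
    exact hd (by simpa using c1)
  have c2 : blockDefect 2 b + 1 = w + (w !).factorization 2 := by
    have := card_inf_alt (hQ ⟨_, rfl⟩) (tr_single_notMem ⟨0, Nat.pos_of_ne_zero hw0⟩)
    rw [← c1, card_sylow_wp, ← pow_succ] at this
    exact Nat.pow_right_injective le_rfl this
  rcases Nat.even_or_odd w with ⟨v, hv⟩ | hw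
  · obtain ⟨e'⟩ : Nonempty (Fin v × (ZMod 2 × ZMod 2) ≃ Fin w × ZMod 2) :=
      Fintype.card_eq.mp (by simp; omega)
    have s1 : 2 ^ w ≤ 2 ^ s := by
      have := card_le_alt hs hS (e'.permCongrHom.toMonoidHom.comp (tr _ _))
        (e'.permCongrHom.injective.comp (tr_injective _ _)) (fun a => by
          ext i <;> simp [two_mul, CharTwo.add_self_eq_zero]) fun a => by
          simp [sign_tr, sign_addRight_four]
      rw [hv, pow_add, ← mul_pow]
      simpa using this
    rcases le_or_gt 3 w with hw | hw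
    · exact (r1.trans_lt (two_mul_ncard_TT_lt h.hρ hw two_pos)).trans_le s1
    · obtain rfl : w = 2 := by omega
      refine small 2 le_rfl ?_ s1
      rw [Nat.factorial_two, Nat.prime_two.factorization_self] at c2
      omega
  · have hw3 : 3 ≤ w := by
      by_contra hc
      obtain rfl : w = 1 := by obtain ⟨k, hk⟩ := hw; omega
      simp at c2
      omega
    have r2 : blockRank 2 b ≤ (TT ρ w).ncard := by
      refine le_trans (Submodule.finrank_mono (Submodule.span_le.mpr ?_)) h.finrank_RR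
      rintro _ ⟨θ, hθ, rfl⟩
      obtain ⟨χ, a1, a2⟩ := exists_over_mem hM hB hb hc hθ
      obtain ⟨t, ht⟩ := exists_rep (Ω := Ω)
      rcases res_cases ht a2 with h5 | ⟨-, h5⟩
      · have := h.res_mem a1
        rwa [h5] at this
      · exact absurd (h5 _ (uu_notMem e hw)) (h.val_ne_zero e a1)
    have s1 := card_le_alt hs hS ((tr _ _).comp (Perm.sign.comp (tr (Fin w) (ZMod 2))).ker.subtype)
      ((tr_injective _ _).comp Subtype.val_injective) (fun v => Subtype.ext (tr_pow _ _))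
      fun v => v.2
    have s2 := (Perm.sign.comp (tr (Fin w) (ZMod 2))).ker.index_mul_card
    have s3 : (Perm.sign.comp (tr (Fin w) (ZMod 2))).ker.index ≤ 2 := by
      rw [Subgroup.index_ker]
      simpa using Subgroup.card_le_card_group (Perm.sign.comp (tr (Fin w) (ZMod 2))).range
    have s4 : Nat.card (Multiplicative (Fin w → ZMod 2)) = 2 ^ w := by simp
    have := two_mul_ncard_TT_lt h.hρ hw3 two_pos
    nlinarith

end H33.Sn
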